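import Cfsg.Agent.Lib.Blocks.PrincipalColumn

/-!
Facts about the principal block used for extremely closed subgroups: values on `z c` with `c` in a
normal `p'`-subgroup of `C(z)`, orthogonality between sections, and a lower bound for the norm of
a column.
-/

set_option autoImplicit false
set_option linter.style.haveILetI false

namespace CfsgLib.ExtClosed

open Cfsg CfsgLib.Characters CfsgLib.Blocks
open scoped ComplexConjugate

universe u

variable {G : Type u} [Group G] [Fintype G] {p : ℕ} [Fact p.Prime] {M : Ideal AlgInt}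

open scoped Classical in
/-- The principal block as a finset. -/
noncomputable def bset (M : Ideal AlgInt) (G : Type u) [Group G] [Fintype G] :
    Finset (IrrCharacter G) :=
  Finset.univ.filter (· ∈ principalBlock M G)

theorem mem_bset {χ : IrrCharacter G} : χ ∈ bset M G ↔ χ ∈ principalBlock M G := by
  classical
  simp [bset]

/-- The norm of a column restricted to the principal block. -/
noncomputable def bnorm (M : Ideal AlgInt) (z : G) : ℝ :=
  ∑ χ ∈ bset M G, ‖(χ : G → ℂ) z‖ ^ 2

theorem bnorm_nonneg (z : G) : 0 ≤ bnorm M z :=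
  Finset.sum_nonneg fun _ _ => by positivity

/-- Values on `z c` for `c` in a normal `p'`-subgroup of the centraliser of `z`. -/
theorem principal_apply_mul (hM : IsPModular p M) {χ : IrrCharacter G}
    (hχ : χ ∈ principalBlock M G) {z : G} (hz : ∃ k : ℕ, orderOf z = p ^ k)
    {N : Subgroup ↥(Subgroup.centralizer ({z} : Set G))} [N.Normal] (hN : ¬ p ∣ Nat.card N)
    {c : ↥(Subgroup.centralizer ({z} : Set G))} (hc : c ∈ N) :
    (χ : G → ℂ) (z * (c : G)) = (χ : G → ℂ) z := by
  classical
  letI := Fintype.ofFinite (Subgroup.centralizer ({z} : Set G))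
  have hcr : ¬ p ∣ orderOf c := fun h => hN (h.trans (Subgroup.orderOf_dvd_natCard N hc))
  have h1r : ¬ p ∣ orderOf (1 : Subgroup.centralizer ({z} : Set G)) := by
    rw [orderOf_one]; exact (Fact.out : p.Prime).not_dvd_one
  have e1 := blockPart_principal_section hM hz hcr χ
  have e2 := blockPart_principal_section hM hz h1r χ
  rw [if_pos hχ] at e1 e2
  rw [Subgroup.coe_one, mul_one] at e2
  rw [← e1, ← e2, blockPart_eq_sum, blockPart_eq_sum]
  exact Finset.sum_congr rfl fun ξ hξ => by
    rw [principalBlock_kernel hM (Finset.mem_filter.1 hξ).2 hN hc]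

/-- Different sections are orthogonal within the principal block. -/
theorem sum_principal_conj_eq_zero (hM : IsPModular p M) {z t : G}
    (hz : ∃ k : ℕ, orderOf z = p ^ k) (ht : ∃ k : ℕ, orderOf t = p ^ k) (hne : ¬ IsConj z t) :
    ∑ χ ∈ bset M G, (χ : G → ℂ) z * conj ((χ : G → ℂ) t) = 0 := by
  classical
  have h := sum_principal_eq_zero_of_section hM hz (fun ζ => conj ((ζ : G → ℂ) t)) fun y hc hy => by
    have h1 := column_orth (z * y) t
    rw [if_neg] at h1
    · rw [← h1]
      exact Finset.sum_congr rfl fun ζ _ => mul_comm _ _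
    · intro hconj
      obtain ⟨d, hd⟩ := isConj_iff.1 hconj
      have hp1 := IsPPart.conj (isPPart_mul hc.symm hz hy) d
      rw [hd] at hp1
      have hp2 : IsPPart p t t := ⟨1, mul_one t, Commute.one_right t, ht, by
        rw [orderOf_one]; exact (Fact.out : p.Prime).not_dvd_one⟩
      exact hne (isConj_iff.2 ⟨d, IsPPart.unique (Fact.out : p.Prime) hp1 hp2⟩)
  rw [← h]
  exact Finset.sum_congr rfl fun ζ _ => mul_comm _ _

/-- Weak orthogonality in the principal block. -/
theorem sum_principal_regular (hM : IsPModular p M) {u t : G} (hu : ¬ p ∣ orderOf u)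
    (ht : p ∣ orderOf t) :
    ∑ χ ∈ bset M G, (χ : G → ℂ) u * conj ((χ : G → ℂ) t) = 0 := by
  classical
  exact weak_orth hM (isPBlock_principalBlock M) hu ht

theorem dvd_orderOf_of_ne_one {t : G} (ht : ∃ k : ℕ, orderOf t = p ^ k) (h1 : t ≠ 1) :
    p ∣ orderOf t := by
  obtain ⟨k, hk⟩ := ht
  rcases k with _ | k
  · exact absurd (orderOf_eq_one_iff.1 (by simpa using hk)) h1
  · exact hk ▸ dvd_pow_self p k.succ_ne_zero

theorem sum_restrict_eq_finrank {n : ℕ} (ρ : Representation ℂ G (Fin n → ℂ)) (D : Subgroup G)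
    [Fintype D] :
    ∑ d : D, ρ.character d =
      (Nat.card D : ℂ) * (Module.finrank ℂ (Representation.invariants (ρ.comp D.subtype)) : ℂ) := by
  have : Invertible (Nat.card D : ℂ) :=
    invertibleOfNonzero (Nat.cast_ne_zero.2 Nat.card_pos.ne')
  rw [← Representation.card_inv_mul_sum_char_eq_finrank, ← mul_assoc,
    mul_inv_cancel₀ (Nat.cast_ne_zero.2 Nat.card_pos.ne'), one_mul]
  rfl

/-- A `p`-subgroup bounds the dimension of the principal block algebra from below. -/
theorem card_le_bnorm_one (hM : IsPModular p M) {D : Subgroup G} (hD : IsPGroup p D) :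
    (Nat.card D : ℝ) ≤ bnorm M (1 : G) := by
  classical
  letI := Fintype.ofFinite D
  choose n hn using fun χ : IrrCharacter G => irr_isCharacter χ
  choose ρ hρ using hn
  set k : IrrCharacter G → ℕ :=
    fun χ => Module.finrank ℂ (Representation.invariants ((ρ χ).comp D.subtype)) with hk
  have hsum : ∀ χ : IrrCharacter G, ∑ d : D, (χ : G → ℂ) d = (Nat.card D : ℂ) * (k χ : ℂ) :=
    fun χ => by rw [← sum_restrict_eq_finrank (ρ χ) D]; simp only [hρ]
  have hdeg : ∀ χ : IrrCharacter G, (χ : G → ℂ) 1 = (n χ : ℂ) := fun χ => by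
    have h := (ρ χ).char_one
    rw [hρ, Module.finrank_fin_fun] at h
    exact h
  have key : ∀ d : D, ∑ χ ∈ bset M G, (χ : G → ℂ) 1 * conj ((χ : G → ℂ) d) =
      if d = 1 then ∑ χ ∈ bset M G, ((n χ : ℂ)) ^ 2 else 0 := by
    intro d
    split_ifs with hd
    · subst hd
      refine Finset.sum_congr rfl fun χ _ => ?_
      rw [Subgroup.coe_one, hdeg, map_natCast, sq]
    · refine sum_principal_regular hM (by rw [orderOf_one]; exact (Fact.out : p.Prime).not_dvd_one) ?_
      refine dvd_orderOf_of_ne_one ?_ fun h => hd (Subtype.ext h)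
      obtain ⟨j, hj⟩ := IsPGroup.iff_orderOf.1 hD d
      exact ⟨j, by rw [Subgroup.orderOf_coe]; exact hj⟩
  have h1 : ∑ χ ∈ bset M G, (n χ : ℂ) * ((Nat.card D : ℂ) * (k χ : ℂ)) =
      ∑ χ ∈ bset M G, ((n χ : ℂ)) ^ 2 := by
    have h2 : ∑ d : D, ∑ χ ∈ bset M G, (χ : G → ℂ) 1 * conj ((χ : G → ℂ) d) =
        ∑ χ ∈ bset M G, ((n χ : ℂ)) ^ 2 := by
      rw [Finset.sum_congr rfl fun d _ => key d, Finset.sum_ite_eq' Finset.univ (1 : D),
        if_pos (Finset.mem_univ _)]
    rw [← h2, Finset.sum_comm]
    refine Finset.sum_congr rfl fun χ _ => ?_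
    rw [← Finset.mul_sum, ← map_sum, hsum, hdeg, map_mul, map_natCast, map_natCast]
  have hprin : (principalIrr G) ∈ bset M G := mem_bset.2 (principalIrr_mem hM)
  have hn1 : n (principalIrr G) = 1 := by
    have h := hdeg (principalIrr G)
    rw [principalIrr_apply] at h
    exact_mod_cast h.symm
  have hk1 : k (principalIrr G) = 1 := by
    have h := hsum (principalIrr G)
    simp only [principalIrr_apply, Finset.sum_const, Finset.card_univ, nsmul_eq_mul, mul_one,
      Nat.card_eq_fintype_card] at h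
    have : (Fintype.card D : ℂ) ≠ 0 := Nat.cast_ne_zero.2 Fintype.card_ne_zero
    exact_mod_cast (mul_eq_left₀ this).1 h.symm
  have h3 : ∑ χ ∈ bset M G, n χ * (Nat.card D * k χ) = ∑ χ ∈ bset M G, (n χ) ^ 2 := by
    exact_mod_cast h1
  have h4 : Nat.card D ≤ ∑ χ ∈ bset M G, (n χ) ^ 2 := by
    rw [← h3]
    refine le_trans ?_ (Finset.single_le_sum (fun χ _ => Nat.zero_le _) hprin)
    rw [hn1, hk1, one_mul, mul_one]
  have h5 : bnorm M (1 : G) = ((∑ χ ∈ bset M G, (n χ) ^ 2 : ℕ) : ℝ) := by
    rw [bnorm, Nat.cast_sum]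
    refine Finset.sum_congr rfl fun χ _ => ?_
    rw [hdeg, Complex.norm_natCast, Nat.cast_pow]
  rw [h5]
  exact_mod_cast h4

/-- A `p`-subgroup of the centraliser bounds the norm of the column from below. -/
theorem card_le_bnorm (hM : IsPModular p M) {z : G} (hz : ∃ k : ℕ, orderOf z = p ^ k)
    {D : Subgroup G} (hD : IsPGroup p D) (hle : D ≤ Subgroup.centralizer ({z} : Set G)) :
    (Nat.card D : ℝ) ≤ bnorm M z := by
  classical
  letI := Fintype.ofFinite (Subgroup.centralizer ({z} : Set G))
  have h1r : ¬ p ∣ orderOf (1 : Subgroup.centralizer ({z} : Set G)) := by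
    rw [orderOf_one]; exact (Fact.out : p.Prime).not_dvd_one
  have h := principal_section_norm hM hz h1r
  rw [Subgroup.coe_one, mul_one] at h
  have h2 := card_le_bnorm_one (G := ↥(Subgroup.centralizer ({z} : Set G))) hM
    (D := D.subgroupOf _) hD.comap_subtype
  rw [Nat.card_congr (Subgroup.subgroupOfEquivOfLe hle).toEquiv] at h2
  unfold bnorm bset at h2 ⊢
  rw [h]
  exact h2

end CfsgLib.ExtClosed
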