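import Mathlib
import Cfsg.Agent.Lib.Characters.Values
import Cfsg.Agent.Lib.Characters.Scalar

/-!
Two subgroups `O₁`, `O₂` normalised by an abelian `H`, generating the group together with `H`, and
an irreducible character of degree above one with `χ (h o) = χ h` for `h ≠ 1` in `H` and `o ∈ Oᵢ`:
then `8 ∑_{h ≠ 1} |χ h|² ≤ χ(1)²`.
-/

set_option autoImplicit false

namespace CfsgLib.ExtClosed

open scoped ComplexConjugate
open Representation

universe u

variable {G : Type u} [Group G] [Fintype G] {n : ℕ}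

/-- An irreducible representation with commuting operators has degree one. -/
theorem finrank_eq_one_of_commute (ρ : Representation ℂ G (Fin n → ℂ)) [ρ.IsIrreducible]
    (h : ∀ a b : G, Commute (ρ a) (ρ b)) : n = 1 := by
  haveI := CfsgLib.CharScalar.nontrivial_of_irreducible ρ
  obtain ⟨v, hv⟩ := exists_ne (0 : Fin n → ℂ)
  have hs : ∀ a : G, ∃ c : ℂ, ρ a = c • (1 : Module.End ℂ (Fin n → ℂ)) := fun a =>
    CfsgLib.CharScalar.exists_scalar ρ (ρ a) fun g => (h a g).eq
  have hW := CfsgLib.CharScalar.eq_bot_or_eq_top ρ (Submodule.span ℂ {v}) fun g w hw => by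
    obtain ⟨c, hc⟩ := hs g
    rw [hc, LinearMap.smul_apply, Module.End.one_apply]
    exact Submodule.smul_mem _ c hw
  have htop : Submodule.span ℂ {v} = ⊤ := hW.resolve_left (by simpa using hv)
  have h1 := finrank_span_singleton (K := ℂ) hv
  rw [htop, finrank_top, Module.finrank_fin_fun] at h1
  exact h1

/-- An element `s` acting as a scalar and `χ (s r) = χ s` force `r` into the kernel. -/
theorem apply_eq_id_of_scalar (ρ : Representation ℂ G (Fin n → ℂ)) {s r : G}
    (hs : ‖ρ.character s‖ = (n : ℝ)) (hn : 0 < n) (hr : ρ.character (s * r) = ρ.character s) :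
    ρ r = LinearMap.id := by
  obtain ⟨ω, hω⟩ := (CfsgLib.Characters.norm_char_eq_iff_scalar ρ s).1
    (by rwa [Module.finrank_fin_fun])
  refine (CfsgLib.Characters.char_eq_degree_iff ρ r).1 ?_
  have h1 : ρ.character (s * r) = ω * ρ.character r := by
    simp only [Representation.character, map_mul, hω]
    rw [show (ω • (LinearMap.id : (Fin n → ℂ) →ₗ[ℂ] _)) * ρ r = ω • ρ r from
      LinearMap.ext fun v => rfl, map_smul, smul_eq_mul]
  have h2 : ρ.character s = ω * (Module.finrank ℂ (Fin n → ℂ) : ℂ) := by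
    simp only [Representation.character, hω, map_smul, smul_eq_mul, LinearMap.trace_id]
  have hω0 : ω ≠ 0 := by
    rintro rfl
    rw [h2, zero_mul, norm_zero] at hs
    exact hn.ne' (by exact_mod_cast hs.symm)
  rw [h1, h2] at hr
  exact mul_left_cancel₀ hω0 hr

/-- The vectors fixed by a normalised subgroup, as a subrepresentation of a subgroup. -/
noncomputable def fixedSubrep (ρ : Representation ℂ G (Fin n → ℂ)) {H O : Subgroup G}
    (hHO : H ≤ Subgroup.normalizer (O : Set G)) : Subrepresentation (ρ.comp H.subtype) where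
  toSubmodule := invariants (ρ.comp O.subtype)
  apply_mem_toSubmodule h v hv o := by
    have hm : (h : G)⁻¹ * o * h ∈ O := ((Subgroup.mem_normalizer_iff'').1 (hHO h.2) (o : G)).1 o.2
    have := hv ⟨_, hm⟩
    show ρ (o : G) (ρ (h : G) v) = ρ (h : G) v
    have e : ρ ((h : G)⁻¹ * o * h) v = v := this
    calc ρ (o : G) (ρ (h : G) v) = ρ ((o : G) * h) v := by rw [map_mul]; rfl
      _ = ρ ((h : G) * ((h : G)⁻¹ * o * h)) v := by congr 2; group
      _ = ρ (h : G) (ρ ((h : G)⁻¹ * o * h) v) := by rw [map_mul]; rfl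
      _ = _ := by rw [e]

/-- The character on the fixed vectors agrees with `χ` where `χ` is constant on cosets. -/
theorem character_fixedSubrep (ρ : Representation ℂ G (Fin n → ℂ)) {H O : Subgroup G}
    (hHO : H ≤ Subgroup.normalizer (O : Set G)) (h : H)
    (hval : ∀ o ∈ O, ρ.character ((h : G) * o) = ρ.character h) :
    (fixedSubrep ρ hHO).toRepresentation.character h = ρ.character h := by
  classical
  letI := Fintype.ofFinite O
  letI : Invertible (Fintype.card O : ℂ) :=
    invertibleOfNonzero (Nat.cast_ne_zero.2 Fintype.card_ne_zero)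
  set U := invariants (ρ.comp O.subtype) with hU
  set E := averageMap (ρ.comp O.subtype) with hE
  have hmem : ∀ v, (ρ (h : G) ∘ₗ E) v ∈ U := fun v =>
    (fixedSubrep ρ hHO).apply_mem_toSubmodule h (averageMap_invariant _ v)
  set g : (Fin n → ℂ) →ₗ[ℂ] U := (ρ (h : G) ∘ₗ E).codRestrict U hmem with hg
  have h1 : (fixedSubrep ρ hHO).toRepresentation h = g ∘ₗ U.subtype := by
    refine LinearMap.ext fun v => Subtype.ext ?_
    show ρ (h : G) (v : Fin n → ℂ) = ρ (h : G) (E v)
    rw [hE, averageMap_id _ _ v.2]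
  have h2 : LinearMap.trace ℂ _ (g ∘ₗ U.subtype) = LinearMap.trace ℂ _ (ρ (h : G) ∘ₗ E) := by
    rw [LinearMap.trace_comp_comm' U.subtype g]
    rfl
  have hEsum : E = (Fintype.card O : ℂ)⁻¹ • ∑ o : O, ρ (o : G) := by
    rw [hE]
    simp [GroupAlgebra.average, map_sum]
  show LinearMap.trace ℂ _ ((fixedSubrep ρ hHO).toRepresentation h) = _
  rw [h1]
  refine h2.trans ?_
  rw [hEsum, LinearMap.comp_smul, map_smul, smul_eq_mul]
  have h3 : ρ (h : G) ∘ₗ (∑ o : O, ρ (o : G)) = ∑ o : O, ρ ((h : G) * o) := by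
    rw [← Module.End.mul_eq_comp, Finset.mul_sum]
    simp only [map_mul]
  rw [h3, map_sum]
  have h4 : ∀ o : O, LinearMap.trace ℂ _ (ρ ((h : G) * o)) = ρ.character (h : G) :=
    fun o => hval o o.2
  rw [Finset.sum_congr rfl fun o _ => h4 o, Finset.sum_const, Finset.card_univ, nsmul_eq_mul,
    inv_mul_cancel_left₀ (Nat.cast_ne_zero.2 Fintype.card_ne_zero)]

variable (ρ : Representation ℂ G (Fin n → ℂ)) {H O₁ O₂ : Subgroup G}

/-- Maps into two independent subrepresentations embed in the maps into the whole space. -/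
theorem finrank_intertwining_le (h₁ : H ≤ Subgroup.normalizer (O₁ : Set G))
    (h₂ : H ≤ Subgroup.normalizer (O₂ : Set G))
    (hdis : invariants (ρ.comp O₁.subtype) ⊓ invariants (ρ.comp O₂.subtype) = ⊥) :
    Module.finrank ℂ (IntertwiningMap (fixedSubrep ρ h₁).toRepresentation
        (fixedSubrep ρ h₁).toRepresentation) +
      Module.finrank ℂ (IntertwiningMap (fixedSubrep ρ h₁).toRepresentation
        (fixedSubrep ρ h₂).toRepresentation) ≤
      Module.finrank ℂ (IntertwiningMap (fixedSubrep ρ h₁).toRepresentation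
        (ρ.comp H.subtype)) := by
  set τ₁ := (fixedSubrep ρ h₁).toRepresentation
  set τ₂ := (fixedSubrep ρ h₂).toRepresentation
  let ι₁ : IntertwiningMap τ₁ (ρ.comp H.subtype) :=
    ⟨(invariants (ρ.comp O₁.subtype)).subtype, fun g => LinearMap.ext fun v => rfl⟩
  let ι₂ : IntertwiningMap τ₂ (ρ.comp H.subtype) :=
    ⟨(invariants (ρ.comp O₂.subtype)).subtype, fun g => LinearMap.ext fun v => rfl⟩
  let f : IntertwiningMap τ₁ τ₁ × IntertwiningMap τ₁ τ₂ →ₗ[ℂ]
      IntertwiningMap τ₁ (ρ.comp H.subtype) :=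
    { toFun := fun AB => ι₁.comp AB.1 + ι₂.comp AB.2
      map_add' := fun a b => by
        refine IntertwiningMap.ext (LinearMap.ext fun v => ?_)
        show ((a.1 v + b.1 v : invariants (ρ.comp O₁.subtype)) : Fin n → ℂ) +
            ((a.2 v + b.2 v : invariants (ρ.comp O₂.subtype)) : Fin n → ℂ) =
          ((a.1 v : Fin n → ℂ) + (a.2 v : Fin n → ℂ)) + ((b.1 v : Fin n → ℂ) + (b.2 v : Fin n → ℂ))
        rw [Submodule.coe_add, Submodule.coe_add]
        abel
      map_smul' := fun c a => by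
        refine IntertwiningMap.ext (LinearMap.ext fun v => ?_)
        show ((c • a.1 v : invariants (ρ.comp O₁.subtype)) : Fin n → ℂ) +
            ((c • a.2 v : invariants (ρ.comp O₂.subtype)) : Fin n → ℂ) =
          c • ((a.1 v : Fin n → ℂ) + (a.2 v : Fin n → ℂ))
        rw [Submodule.coe_smul, Submodule.coe_smul, smul_add] }
  have hf : Function.Injective f := by
    letI : AddCommGroup (IntertwiningMap τ₁ τ₁) := Module.addCommMonoidToAddCommGroup ℂ
    letI : AddCommGroup (IntertwiningMap τ₁ τ₂) := Module.addCommMonoidToAddCommGroup ℂ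
    refine (injective_iff_map_eq_zero f).2 ?_
    rintro ⟨A, B⟩ hAB
    have hz : ∀ v, (A v : Fin n → ℂ) + (B v : Fin n → ℂ) = 0 := fun v =>
      congrArg (fun F : IntertwiningMap τ₁ (ρ.comp H.subtype) => F v) hAB
    have hA : ∀ v, (A v : Fin n → ℂ) = 0 := fun v => by
      have h2 : (A v : Fin n → ℂ) ∈
          invariants (ρ.comp O₁.subtype) ⊓ invariants (ρ.comp O₂.subtype) :=
        ⟨(A v).2, by rw [eq_neg_of_add_eq_zero_left (hz v)]; exact Submodule.neg_mem _ (B v).2⟩
      rw [hdis, Submodule.mem_bot] at h2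
      exact h2
    exact Prod.ext (IntertwiningMap.ext (LinearMap.ext fun v => Subtype.ext (hA v)))
      (IntertwiningMap.ext (LinearMap.ext fun v => Subtype.ext (by
        have := hz v
        rw [hA v, zero_add] at this
        exact this)))
  letI : AddCommGroup (IntertwiningMap τ₁ τ₁) := Module.addCommMonoidToAddCommGroup ℂ
  letI : AddCommGroup (IntertwiningMap τ₁ τ₂) := Module.addCommMonoidToAddCommGroup ℂ
  rw [← Module.finrank_prod]
  exact LinearMap.finrank_le_finrank_of_injective hf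

/-- The two fixed spaces meet trivially. -/
theorem invariants_inf_eq_bot [ρ.IsIrreducible] (hab : IsMulCommutative H)
    (h₁ : H ≤ Subgroup.normalizer (O₁ : Set G)) (h₂ : H ≤ Subgroup.normalizer (O₂ : Set G))
    (htop : H ⊔ O₁ ⊔ O₂ = ⊤) (hn : n ≠ 1) :
    invariants (ρ.comp O₁.subtype) ⊓ invariants (ρ.comp O₂.subtype) = ⊥ := by
  set W := invariants (ρ.comp O₁.subtype) ⊓ invariants (ρ.comp O₂.subtype) with hW
  have hinv : ∀ g : G, ∀ w ∈ W, ρ g w ∈ W := by
    intro g
    have hg : g ∈ H ⊔ O₁ ⊔ O₂ := htop ▸ Subgroup.mem_top g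
    let S : Submonoid G :=
      { carrier := {g | ∀ w ∈ W, ρ g w ∈ W}
        one_mem' := fun w hw => by rw [map_one]; exact hw
        mul_mem' := fun {a b} ha hb w hw => by
          rw [map_mul]; exact ha _ (hb w hw) }
    have hSg : (H ⊔ O₁ ⊔ O₂).toSubmonoid ≤ S := by
      rw [Subgroup.sup_eq_closure, Subgroup.closure_toSubmonoid_of_finite, Submonoid.closure_le]
      rintro x (hx | hx)
      · have : x ∈ (H ⊔ O₁).toSubmonoid := hx
        rw [Subgroup.sup_eq_closure, Subgroup.closure_toSubmonoid_of_finite] at this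
        refine Submonoid.closure_le.2 ?_ this
        rintro y (hy | hy) w hw
        · exact ⟨(fixedSubrep ρ h₁).apply_mem_toSubmodule ⟨y, hy⟩ hw.1,
            (fixedSubrep ρ h₂).apply_mem_toSubmodule ⟨y, hy⟩ hw.2⟩
        · have : ρ y w = w := hw.1 ⟨y, hy⟩
          rw [this]; exact hw
      · intro w hw
        have : ρ x w = w := hw.2 ⟨x, hx⟩
        rw [this]; exact hw
    exact hSg hg
  rcases CfsgLib.CharScalar.eq_bot_or_eq_top ρ W hinv with h | h
  · exact h
  exfalso
  refine hn (finrank_eq_one_of_commute ρ fun a b => ?_)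
  -- everything acts as an element of `H`
  let T : Subgroup G :=
    { carrier := {g | ∃ h ∈ H, ρ g = ρ h}
      one_mem' := ⟨1, H.one_mem, rfl⟩
      mul_mem' := fun {a b} ⟨x, hx, ea⟩ ⟨y, hy, eb⟩ =>
        ⟨x * y, H.mul_mem hx hy, by rw [map_mul, map_mul, ea, eb]⟩
      inv_mem' := fun {a} ⟨x, hx, ea⟩ => ⟨x⁻¹, H.inv_mem hx, by
        calc ρ a⁻¹ = ρ a⁻¹ * (ρ x * ρ x⁻¹) := by rw [← map_mul, mul_inv_cancel, map_one, mul_one]
          _ = (ρ a⁻¹ * ρ a) * ρ x⁻¹ := by rw [ea, mul_assoc]
          _ = ρ x⁻¹ := by rw [← map_mul, inv_mul_cancel, map_one, one_mul]⟩ }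
  have hT : (⊤ : Subgroup G) ≤ T := by
    rw [← htop]
    refine sup_le (sup_le (fun x hx => ⟨x, hx, rfl⟩) ?_) ?_
    · intro x hx
      refine ⟨1, H.one_mem, LinearMap.ext fun w => ?_⟩
      have : w ∈ W := h ▸ Submodule.mem_top
      rw [map_one]
      exact this.1 ⟨x, hx⟩
    · intro x hx
      refine ⟨1, H.one_mem, LinearMap.ext fun w => ?_⟩
      have : w ∈ W := h ▸ Submodule.mem_top
      rw [map_one]
      exact this.2 ⟨x, hx⟩
  obtain ⟨x, hx, ea⟩ := hT (Subgroup.mem_top a)
  obtain ⟨y, hy, eb⟩ := hT (Subgroup.mem_top b)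
  rw [ea, eb]
  show ρ x * ρ y = ρ y * ρ x
  rw [← map_mul, ← map_mul,
    show x * y = y * x from congrArg Subtype.val (hab.is_comm.comm ⟨x, hx⟩ ⟨y, hy⟩)]

open scoped Classical in
/-- The bound on the character values on `H`. -/
theorem eight_sum_sq_le [ρ.IsIrreducible] [Fintype H] (hab : IsMulCommutative H)
    (h₁ : H ≤ Subgroup.normalizer (O₁ : Set G)) (h₂ : H ≤ Subgroup.normalizer (O₂ : Set G))
    (htop : H ⊔ O₁ ⊔ O₂ = ⊤) (hn : n ≠ 1)
    (hv₁ : ∀ h ∈ H, h ≠ 1 → ∀ o ∈ O₁, ρ.character (h * o) = ρ.character h)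
    (hv₂ : ∀ h ∈ H, h ≠ 1 → ∀ o ∈ O₂, ρ.character (h * o) = ρ.character h) :
    8 * ∑ h ∈ Finset.univ.erase (1 : H), ‖ρ.character (h : G)‖ ^ 2 ≤ (n : ℝ) ^ 2 := by
  have hd : invariants (ρ.comp O₁.subtype) ⊓ invariants (ρ.comp O₂.subtype) = ⊥ :=
    invariants_inf_eq_bot ρ hab h₁ h₂ htop hn
  set Q := ∑ h ∈ Finset.univ.erase (1 : H), ‖ρ.character (h : G)‖ ^ 2
  set a := Module.finrank ℂ (invariants (ρ.comp O₁.subtype))
  set b := Module.finrank ℂ (invariants (ρ.comp O₂.subtype))
  have : Invertible (Nat.card H : ℂ) :=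
    invertibleOfNonzero (Nat.cast_ne_zero.2 Nat.card_pos.ne')
  -- one inequality
  have key : ∀ {P R : Subgroup G} (hP : H ≤ Subgroup.normalizer (P : Set G))
      (hR : H ≤ Subgroup.normalizer (R : Set G)),
      invariants (ρ.comp P.subtype) ⊓ invariants (ρ.comp R.subtype) = ⊥ →
      (∀ h ∈ H, h ≠ 1 → ∀ o ∈ P, ρ.character (h * o) = ρ.character h) →
      (∀ h ∈ H, h ≠ 1 → ∀ o ∈ R, ρ.character (h * o) = ρ.character h) →
      Q ≤ (Module.finrank ℂ (invariants (ρ.comp P.subtype)) : ℝ) *
        ((n : ℝ) - Module.finrank ℂ (invariants (ρ.comp P.subtype)) -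
          Module.finrank ℂ (invariants (ρ.comp R.subtype))) := by
    intro P R hP hR hdPR hvP hvR
    set τ := (fixedSubrep ρ hP).toRepresentation
    set τ' := (fixedSubrep ρ hR).toRepresentation
    have hle := finrank_intertwining_le ρ hP hR hdPR
    have e1 := Representation.card_inv_mul_sum_char_mul_char_eq_finrank τ τ
    have e2 := Representation.card_inv_mul_sum_char_mul_char_eq_finrank τ τ'
    have e3 := Representation.card_inv_mul_sum_char_mul_char_eq_finrank τ (ρ.comp H.subtype)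
    set F : H → ℂ := fun h => (Representation.character (ρ.comp H.subtype) h - τ.character h - τ'.character h) *
      τ.character h⁻¹ with hF
    have hsum : (Nat.card H : ℂ)⁻¹ * ∑ h, F h =
        ((Module.finrank ℂ (IntertwiningMap τ (ρ.comp H.subtype)) : ℝ) -
          Module.finrank ℂ (IntertwiningMap τ τ) - Module.finrank ℂ (IntertwiningMap τ τ') : ℝ) := by
      simp only [hF, sub_mul, Finset.sum_sub_distrib, mul_sub, e1, e2, e3]
      push_cast
      rfl
    have hF1 : F 1 = (((Module.finrank ℂ (invariants (ρ.comp P.subtype)) : ℝ) *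
        ((n : ℝ) - Module.finrank ℂ (invariants (ρ.comp P.subtype)) -
          Module.finrank ℂ (invariants (ρ.comp R.subtype))) : ℝ) : ℂ) := by
      simp only [hF, inv_one, Representation.char_one, Module.finrank_fin_fun]
      push_cast
      exact mul_comm _ _
    have hFh : ∀ h ∈ Finset.univ.erase (1 : H), F h = -(((‖ρ.character (h : G)‖ ^ 2 : ℝ)) : ℂ) := by
      intro h hh
      have hne : (h : G) ≠ 1 := fun e => (Finset.mem_erase.1 hh).1 (Subtype.ext e)
      have hne' : ((h⁻¹ : H) : G) ≠ 1 := by simpa using hne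
      have c1 : τ.character h = ρ.character (h : G) :=
        character_fixedSubrep ρ hP h (hvP _ h.2 hne)
      have c2 : τ'.character h = ρ.character (h : G) :=
        character_fixedSubrep ρ hR h (hvR _ h.2 hne)
      have c3 : τ.character h⁻¹ = ρ.character ((h⁻¹ : H) : G) :=
        character_fixedSubrep ρ hP h⁻¹ (hvP _ (h⁻¹).2 hne')
      have c4 : ρ.character ((h⁻¹ : H) : G) = conj (ρ.character (h : G)) :=
        CfsgLib.Characters.char_inv_eq_conj ρ (h : G)
      simp only [hF]
      rw [c1, c2, c3, c4, show Representation.character (ρ.comp H.subtype) h = ρ.character (h : G) from rfl]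
      rw [← Complex.normSq_eq_norm_sq, ← Complex.mul_conj]
      ring
    rw [← Finset.add_sum_erase Finset.univ F (Finset.mem_univ 1), hF1, Finset.sum_congr rfl hFh,
      Finset.sum_neg_distrib, ← Complex.ofReal_sum, ← sub_eq_add_neg, ← Complex.ofReal_sub,
      ← Complex.ofReal_natCast, ← Complex.ofReal_inv, ← Complex.ofReal_mul] at hsum
    have h5 := Complex.ofReal_injective hsum
    have hc0 : (0 : ℝ) < (Nat.card H : ℝ) := by exact_mod_cast Nat.card_pos
    have h6 : (0 : ℝ) ≤ (Module.finrank ℂ (IntertwiningMap τ (ρ.comp H.subtype)) : ℝ) -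
          Module.finrank ℂ (IntertwiningMap τ τ) - Module.finrank ℂ (IntertwiningMap τ τ') := by
      have : ((Module.finrank ℂ (IntertwiningMap τ τ) : ℝ) +
          Module.finrank ℂ (IntertwiningMap τ τ')) ≤
          Module.finrank ℂ (IntertwiningMap τ (ρ.comp H.subtype)) := by exact_mod_cast hle
      linarith
    rw [← h5] at h6
    have h7 := nonneg_of_mul_nonneg_right h6 (inv_pos.2 hc0)
    linarith
  have k1 := key h₁ h₂ hd hv₁ hv₂
  have k2 := key h₂ h₁ (by rw [inf_comm]; exact hd) hv₂ hv₁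
  nlinarith [sq_nonneg ((n : ℝ) - 2 * ((a : ℝ) + (b : ℝ)))]

end CfsgLib.ExtClosed
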