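import Cfsg.Agent.Lib.ExtClosed.Pairs
import Cfsg.Agent.Lib.ExtClosed.BlockFacts
import Cfsg.Agent.Lib.ExtClosed.RepBound
import Cfsg.Agent.Lib.Characters.Decomp
import Cfsg.Agent.Lib.Characters.LinearExt
import Cfsg.Agent.Lib.Isolated.Basic
import Cfsg.Agent.Lib.Blocks.Knorr

/-!
The principal block argument: a finite group with trivial `p'`-core generated by the conjugates of an
abelian `p`-subgroup `H` with split pairs, whose proper subgroups over `H` have the expected
structure and in which no element of `H` is central, does not exist unless `H` is everything.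
-/

set_option autoImplicit false
set_option linter.style.haveILetI false

namespace CfsgLib.ExtClosed

open Cfsg CfsgLib.Characters CfsgLib.Blocks
open scoped ComplexConjugate

universe u

variable {G : Type u} [Group G]

/-- The structure of the proper subgroups containing `H`. -/
def LocalHyp (H : Subgroup G) (p : ℕ) : Prop :=
  ∀ M : Subgroup G, H ≤ M → M ≠ ⊤ → ∃ O : Subgroup G, O ≤ M ∧
    M ≤ Subgroup.normalizer (O : Set G) ∧ ¬ p ∣ Nat.card O ∧
    ∀ g r : G, r ∈ pair H g → ¬ p ∣ orderOf r → r ∈ M → r ∈ O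

variable [Fintype G] {p : ℕ} [Fact p.Prime] {H : Subgroup G} {M : Ideal AlgInt}

section

variable (hH : IsPGroup p H) (hab : IsMulCommutative H) (hsp : PairSplit H p)

include hH in
theorem exists_pow_of_mem {t : G} (ht : t ∈ H) : ∃ k : ℕ, orderOf t = p ^ k := by
  obtain ⟨j, hj⟩ := IsPGroup.iff_orderOf.1 hH ⟨t, ht⟩
  exact ⟨j, by rw [← hj]; exact (Subgroup.orderOf_coe (⟨t, ht⟩ : H))⟩

include hH hab hsp in
/-- An element of a complement lying in `H ⊔ O` lies in `O`. -/
theorem mem_of_mem_sup {O : Subgroup G} (hO : ¬ p ∣ Nat.card O)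
    (hHO : H ≤ Subgroup.normalizer (O : Set G)) {g r : G} (hr : r ∈ compl hH hab hsp g)
    (h : r ∈ H ⊔ O) : r ∈ O := by
  obtain ⟨t, ht, o, ho, rfl⟩ := CfsgLib.Coprime.exists_mul_of_mem_sup hHO h
  have h1 := eq_one_of_regular hH (inf_eq_bot_of_not_dvd hH hO) ht (hHO ht) ho
    (not_dvd_orderOf_of_mem (compl_not_dvd hH hab hsp g) hr)
  rw [h1, one_mul]
  exact ho

include hH hab hsp in
/-- Principal block characters are constant on the cosets `t R`. -/
theorem value_coset (hM : IsPModular p M) (hloc : LocalHyp H p)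
    (hZ : ∀ t ∈ H, t ≠ 1 → Subgroup.centralizer ({t} : Set G) ≠ ⊤) {χ : IrrCharacter G}
    (hχ : χ ∈ principalBlock M G) {t : G} (ht : t ∈ H) (ht1 : t ≠ 1) {g r : G}
    (hr : r ∈ compl hH hab hsp g) : (χ : G → ℂ) (t * r) = (χ : G → ℂ) t := by
  obtain ⟨x, hx, c, hc, hcomm, e⟩ := exists_conj_coset (compl_not_dvd hH hab hsp g)
    (exists_pow_of_mem hH ht) (le_normalizer_compl hH hab hsp g ht) hr
  rw [e, irr_isClassFunction χ (t * c) x]
  set C := Subgroup.centralizer ({t} : Set G) with hCdef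
  have hHC : H ≤ C := fun v hv =>
    Subgroup.mem_centralizer_singleton_iff.2 (commute_of_mem hab hv ht).eq
  obtain ⟨O, hOC, hCO, hOp, hmem⟩ := hloc C hHC (hZ t ht ht1)
  have hcC : c ∈ C := Subgroup.mem_centralizer_singleton_iff.2 hcomm.symm.eq
  have hcO : c ∈ O := hmem g c (compl_le hH hab hsp g hc)
    (not_dvd_orderOf_of_mem (compl_not_dvd hH hab hsp g) hc) hcC
  haveI : (O.subgroupOf C).Normal := Subgroup.normal_subgroupOf_of_le_normalizer hCO
  exact principal_apply_mul hM hχ (exists_pow_of_mem hH ht) (N := O.subgroupOf C)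
    (c := ⟨c, hcC⟩) (by rwa [Nat.card_congr (Subgroup.subgroupOfEquivOfLe hOC).toEquiv])
    (Subgroup.mem_subgroupOf.2 hcO)

include hH hab hsp in
/-- If no two pair subgroups generate, fusion in `H` is trivial. -/
theorem conj_eq_of_no_triangle (hloc : LocalHyp H p)
    (htop : Subgroup.normalClosure (H : Set G) = ⊤)
    (htri : ∀ g₁ g₂ : G, pair H g₁ ⊔ pair H g₂ ≠ ⊤) {g b : G} (hb : b ∈ H)
    (hgb : g * b * g⁻¹ ∈ H) : g * b * g⁻¹ = b := by
  have hstep : ∀ g₁ : G, ∀ c ∈ pair H g₁, ∀ d b : G, b ∈ H →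
      proj H p (c * (d * b * d⁻¹) * c⁻¹) = proj H p (d * b * d⁻¹) := by
    intro g₁ c hc d b hb
    set K := pair H g₁ ⊔ pair H d
    obtain ⟨O, hOK, hKO, hOp, hmem⟩ := hloc K ((le_pair g₁).trans le_sup_left) (htri g₁ d)
    have hHO : H ≤ Subgroup.normalizer (O : Set G) := ((le_pair g₁).trans le_sup_left).trans hKO
    have hle : ∀ e : G, pair H e ≤ K → pair H e ≤ H ⊔ O := by
      intro e he
      rw [← compl_sup hH hab hsp e]
      exact sup_le le_sup_left fun r hr => Subgroup.mem_sup_right (hmem e r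
        (compl_le hH hab hsp e hr) (not_dvd_orderOf_of_mem (compl_not_dvd hH hab hsp e) hr)
        (he (compl_le hH hab hsp e hr)))
    have hcHO : c ∈ H ⊔ O := hle g₁ le_sup_left hc
    set y := d * b * d⁻¹
    have hyK : y ∈ pair H d := conj_mem_pair d hb
    have hzK : c * y * c⁻¹ ∈ pair H (c * d) := by
      rw [show c * y * c⁻¹ = c * d * b * (c * d)⁻¹ by simp only [y]; group]
      exact conj_mem_pair (c * d) hb
    set h := proj H p y
    have hh : h ∈ H := proj_mem y
    have hreg := proj_regular hH hab hsp hyK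
    have hyO : h⁻¹ * y ∈ O := by
      obtain ⟨t, ht, o, ho, e⟩ := CfsgLib.Coprime.exists_mul_of_mem_sup hHO
        (mul_mem (Subgroup.mem_sup_left (H.inv_mem hh)) (hle d le_sup_right hyK))
      have := eq_one_of_regular hH (inf_eq_bot_of_not_dvd hH hOp) ht (hHO ht) ho (e ▸ hreg)
      rw [e, this, one_mul]
      exact ho
    obtain ⟨t, ht, o, ho, rfl⟩ := CfsgLib.Coprime.exists_mul_of_mem_sup hHO hcHO
    refine proj_eq hH hab hsp hzK hh (not_dvd_orderOf_of_mem hOp ?_)
    have hn : ∀ v ∈ H, ∀ w ∈ O, v * w * v⁻¹ ∈ O := fun v hv w hw =>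
      (Subgroup.mem_normalizer_iff.1 (hHO hv) w).1 hw
    have e1 : h⁻¹ * (t * o * y * (t * o)⁻¹) =
        t * ((h⁻¹ * o * h) * (h⁻¹ * y) * o⁻¹) * t⁻¹ := by
      have hc1 : h⁻¹ * t = t * h⁻¹ := ((commute_of_mem hab hh ht).inv_left).eq
      calc h⁻¹ * (t * o * y * (t * o)⁻¹) = (h⁻¹ * t) * o * y * o⁻¹ * t⁻¹ := by group
        _ = (t * h⁻¹) * o * y * o⁻¹ * t⁻¹ := by rw [hc1]
        _ = _ := by group
    rw [e1]
    refine hn t ht _ (O.mul_mem (O.mul_mem ?_ hyO) (O.inv_mem ho))
    simpa using hn h⁻¹ (H.inv_mem hh) o ho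
  let S : Submonoid G :=
    { carrier := {c | ∀ d b : G, b ∈ H →
        proj H p (c * (d * b * d⁻¹) * c⁻¹) = proj H p (d * b * d⁻¹)}
      one_mem' := fun d b hb => by simp
      mul_mem' := fun {a c} ha hc d b hb => by
        have e1 : c * (d * b * d⁻¹) * c⁻¹ = c * d * b * (c * d)⁻¹ := by group
        rw [← hc d b hb, e1, ← ha (c * d) b hb, ← e1]
        congr 1
        group }
  have hS : (Subgroup.normalClosure (H : Set G)).toSubmonoid ≤ S := by
    rw [Subgroup.normalClosure, Subgroup.closure_toSubmonoid_of_finite, Submonoid.closure_le]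
    intro z hz
    obtain ⟨x, hx, hxz⟩ := Group.mem_conjugatesOfSet_iff.1 hz
    obtain ⟨e, rfl⟩ := isConj_iff.1 hxz
    exact fun d b hb => hstep e _ (conj_mem_pair e hx) d b hb
  have h1 := hS (show g ∈ (Subgroup.normalClosure (H : Set G)).toSubmonoid by
    rw [htop]; trivial) 1 b hb
  simp only [one_mul, inv_one, mul_one] at h1
  rwa [proj_self hH hab hsp hgb, proj_self hH hab hsp hb] at h1

end

/-- The nonidentity elements of `H`. -/
noncomputable def nonid (H : Subgroup G) : Finset G := by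
  classical exact Finset.univ.filter (fun x => x ∈ H ∧ x ≠ 1)

theorem mem_nonid {x : G} : x ∈ nonid H ↔ x ∈ H ∧ x ≠ 1 := by
  classical simp [nonid]

theorem card_nonid : (nonid H).card + 1 = Nat.card H := by
  classical
  have h : nonid H = (Finset.univ.filter (· ∈ H)).erase 1 := by
    ext x; simp [nonid, and_comm]
  rw [h, Finset.card_erase_add_one (by simp), Nat.card_eq_fintype_card, Fintype.card_subtype]

/-- Linear characters of the principal block. -/
noncomputable def linset (M : Ideal AlgInt) (G : Type u) [Group G] [Fintype G] :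
    Finset (IrrCharacter G) := by
  classical exact (bset M G).filter (fun χ => (χ : G → ℂ) 1 = 1)

theorem mem_linset {χ : IrrCharacter G} :
    χ ∈ linset M G ↔ χ ∈ bset M G ∧ (χ : G → ℂ) 1 = 1 := by
  classical simp [linset]

theorem norm_linear {χ : IrrCharacter G} (h1 : (χ : G → ℂ) 1 = 1) (x : G) :
    ‖(χ : G → ℂ) x‖ = 1 := by
  obtain ⟨f, hf⟩ := CfsgLib.LinearExt.exists_unitsHom (irr_isCharacter χ) h1
  rw [hf]
  refine Complex.norm_eq_one_of_pow_eq_one (n := orderOf x) ?_ (orderOf_pos x).ne'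
  show ((f x : ℂˣ) : ℂ) ^ _ = 1
  rw [← Units.val_pow_eq_pow_val, ← map_pow, pow_orderOf_eq_one, map_one, Units.val_one]

theorem linear_mul {χ : IrrCharacter G} (h1 : (χ : G → ℂ) 1 = 1) (x y : G) :
    (χ : G → ℂ) (x * y) = (χ : G → ℂ) x * (χ : G → ℂ) y := by
  obtain ⟨f, hf⟩ := CfsgLib.LinearExt.exists_unitsHom (irr_isCharacter χ) h1
  rw [hf]
  simp

/-- The elements of `H` in the kernels of the linear characters of the principal block. -/
noncomputable def linker (M : Ideal AlgInt) (H : Subgroup G) : Subgroup G where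
  carrier := {x | x ∈ H ∧ ∀ χ ∈ linset M G, (χ : G → ℂ) x = 1}
  one_mem' := ⟨H.one_mem, fun χ hχ => (mem_linset.1 hχ).2⟩
  mul_mem' {a b} ha hb := ⟨H.mul_mem ha.1 hb.1, fun χ hχ => by
    rw [linear_mul (mem_linset.1 hχ).2, ha.2 χ hχ, hb.2 χ hχ, one_mul]⟩
  inv_mem' {a} ha := ⟨H.inv_mem ha.1, fun χ hχ => by
    rw [irr_apply_inv, ha.2 χ hχ, map_one]⟩

theorem mem_linker {x : G} :
    x ∈ linker M H ↔ x ∈ H ∧ ∀ χ ∈ linset M G, (χ : G → ℂ) x = 1 := Iff.rfl

theorem linker_le : linker M H ≤ H := fun _ hx => hx.1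

/-- The linear characters of the principal block are at most the index of their common kernel. -/
theorem card_linset_mul_le (htop : Subgroup.normalClosure (H : Set G) = ⊤) :
    (linset M G).card * Nat.card (linker M H) ≤ Nat.card H := by
  classical
  set N := (linker M H).subgroupOf H with hN
  haveI : N.Normal := ⟨fun x hx g => by
    show ((g * x * g⁻¹ : H) : G) ∈ linker M H
    refine ⟨(g * x * g⁻¹).2, fun χ hχ => ?_⟩
    have h1 := irr_isClassFunction χ (x : G) (g : G)
    simp only [Subgroup.coe_mul, Subgroup.coe_inv]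
    rw [h1]
    exact (show (x : G) ∈ linker M H from hx).2 χ hχ⟩
  choose f hf using fun χ : linset M G =>
    CfsgLib.LinearExt.exists_unitsHom (irr_isCharacter χ.1) (mem_linset.1 χ.2).2
  let F : linset M G → (H ⧸ N →* ℂ) := fun χ =>
    QuotientGroup.lift N (((Units.coeHom ℂ).comp (f χ)).comp H.subtype) fun x hx => by
      have h1 := (show (x : G) ∈ linker M H from hx).2 χ.1 χ.2
      rw [hf χ] at h1
      exact h1
  have hF : Function.Injective F := by
    intro χ ψ h
    have hH' : ∀ x ∈ H, f χ x = f ψ x := fun x hx => Units.ext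
      (congrArg (fun φ : H ⧸ N →* ℂ => φ (QuotientGroup.mk ⟨x, hx⟩)) h)
    have heq : f χ = f ψ := by
      refine MonoidHom.eq_of_eqOn_top fun x _ => ?_
      have hle : Subgroup.normalClosure (H : Set G) ≤ (f χ).eqLocus (f ψ) := by
        rw [Subgroup.normalClosure, Subgroup.closure_le]
        intro z hz
        obtain ⟨v, hv, hvz⟩ := Group.mem_conjugatesOfSet_iff.1 hz
        obtain ⟨e, rfl⟩ := isConj_iff.1 hvz
        show f χ (e * v * e⁻¹) = f ψ (e * v * e⁻¹)
        simp only [map_mul, map_inv, mul_inv_cancel_comm, hH' v hv]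
      exact hle (htop ▸ Subgroup.mem_top x)
    refine Subtype.ext (Subtype.ext ?_)
    rw [hf χ, hf ψ, heq]
  have hli := (linearIndependent_monoidHom (H ⧸ N) ℂ).comp F hF
  have hc := hli.fintype_card_le_finrank
  rw [Fintype.card_coe, Module.finrank_fintype_fun_eq_card, ← Nat.card_eq_fintype_card] at hc
  rw [Subgroup.card_eq_card_quotient_mul_card_subgroup N, hN,
    Nat.card_congr (Subgroup.subgroupOfEquivOfLe linker_le).toEquiv]
  exact Nat.mul_le_mul_right _ hc

/-- A column norm restricted to the linear characters. -/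
theorem card_linset_le_bnorm (x : G) : ((linset M G).card : ℝ) ≤ bnorm M x := by
  classical
  calc ((linset M G).card : ℝ) = ∑ χ ∈ linset M G, ‖(χ : G → ℂ) x‖ ^ 2 := by
        rw [Finset.sum_congr rfl fun χ hχ => by rw [norm_linear (mem_linset.1 hχ).2, one_pow]]
        simp
    _ ≤ bnorm M x := Finset.sum_le_sum_of_subset_of_nonneg
        (fun χ hχ => (mem_linset.1 hχ).1) fun _ _ _ => by positivity

theorem bnorm_eq_card_linset {x : G}
    (h : ∀ χ ∈ bset M G, χ ∉ linset M G → (χ : G → ℂ) x = 0) :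
    bnorm M x = ((linset M G).card : ℝ) := by
  classical
  unfold bnorm
  rw [← Finset.sum_subset (s₁ := linset M G) (fun χ hχ => (mem_linset.1 hχ).1)
    fun χ hχ hn => by rw [h χ hχ hn]; simp]
  rw [Finset.sum_congr rfl fun χ hχ => by rw [norm_linear (mem_linset.1 hχ).2, one_pow]]
  simp

theorem bnorm_congr {x y : G} (h : IsConj x y) : bnorm M x = bnorm M y := by
  unfold bnorm
  exact Finset.sum_congr rfl fun χ _ => by
    rw [classFunction_eq_of_isConj (irr_isClassFunction χ) h]

end CfsgLib.ExtClosed
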