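import Cfsg.Agent.Lib.ExtClosed.Singleton
import Cfsg.Agent.Lib.CharCorr.CyclicGlauberman
import Cfsg.Agent.Lib.CharCorr.InvariantLayer
import Cfsg.Agent.Lib.CharCorr.Solvable

/-!
The fixed points of an extremely closed abelian `p`-subgroup on a normal `p'`-complement: a
character argument with the canonical extensions of the invariant characters.
-/

set_option autoImplicit false
set_option linter.style.haveILetI false

namespace CfsgLib.ExtClosed

open Cfsg CfsgLib.Characters CfsgLib.CharCorr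
open scoped ComplexConjugate

universe u

section Count

variable {S : Type u} [Group S] [Finite S] {N : Type u} [Group N] [Fintype N] {p : ℕ}
  [Fact p.Prime] (act : S →* MulAut N)

theorem inv_principal : Inv act (principalIrr N) := fun s x => by simp

theorem coprime_of_pgroup (hS : IsPGroup p S) (hN : ¬ p ∣ Nat.card N) :
    (Nat.card N).Coprime (Nat.card S) := by
  obtain ⟨k, hk⟩ := hS.exists_card_eq
  rw [hk]
  exact ((Fact.out : p.Prime).coprime_iff_not_dvd.2 hN).symm.pow_right k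

/-- Without nontrivial fixed points only the principal character is invariant. -/
theorem eq_principal_of_fixed_trivial (hS : IsPGroup p S) (hsolv : Group.IsSolvable S)
    (hN : ¬ p ∣ Nat.card N) (hfix : ∀ x : N, (∀ s, act s x = x) → x = 1) {χ : IrrCharacter N}
    (hχ : Inv act χ) : χ = principalIrr N := by
  classical
  haveI : Fintype (fixedSub act) := Fintype.ofFinite _
  have hK : ∀ K : {K : ConjClasses N // ∀ s g, ConjClasses.mk g = K →
      ConjClasses.mk (act s g) = K}, (K : ConjClasses N) = ConjClasses.mk 1 := by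
    rintro ⟨K, hK⟩
    obtain ⟨x, rfl⟩ := ConjClasses.exists_rep K
    obtain ⟨c, hc⟩ := exists_fixed_of_class (Fact.out : p.Prime) hS (isFixedHom_fixedSub act) hN x
      fun s => (ConjClasses.mk_eq_mk_iff_isConj.1 (hK s x rfl)).symm
    rw [show ((fixedSub act).subtype c) = 1 from hfix _ c.2] at hc
    exact ConjClasses.mk_eq_mk_iff_isConj.2 hc
  have hle : Nat.card {χ : IrrCharacter N // Inv act χ} ≤ 1 := by
    rw [card_inv_eq_card_classes _ S N act rfl hsolv (coprime_of_pgroup hS hN)]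
    exact Finite.card_le_one_iff_subsingleton.2
      ⟨fun a b => Subtype.ext ((hK a).trans (hK b).symm)⟩
  haveI := Finite.card_le_one_iff_subsingleton.1 hle
  exact congrArg Subtype.val (Subsingleton.elim
    (⟨χ, hχ⟩ : {χ : IrrCharacter N // Inv act χ}) ⟨principalIrr N, inv_principal act⟩)

/-- A single invariant character forces trivial fixed points. -/
theorem fixed_trivial_of_eq_principal (hS : IsPGroup p S) (hsolv : Group.IsSolvable S)
    (hN : ¬ p ∣ Nat.card N) (h : ∀ χ : IrrCharacter N, Inv act χ → χ = principalIrr N) {x : N}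
    (hx : ∀ s, act s x = x) : x = 1 := by
  classical
  have hle : Nat.card {K : ConjClasses N // ∀ s g, ConjClasses.mk g = K →
      ConjClasses.mk (act s g) = K} ≤ 1 := by
    rw [← card_inv_eq_card_classes _ S N act rfl hsolv (coprime_of_pgroup hS hN)]
    exact Finite.card_le_one_iff_subsingleton.2
      ⟨fun a b => Subtype.ext ((h a a.2).trans (h b b.2).symm)⟩
  haveI := Finite.card_le_one_iff_subsingleton.1 hle
  have hmem : ∀ y : N, (∀ s, act s y = y) → ∀ s g, ConjClasses.mk g = ConjClasses.mk y →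
      ConjClasses.mk (act s g) = ConjClasses.mk y := fun y hy s g hg => by
    rw [ConjClasses.mk_eq_mk_iff_isConj] at hg ⊢
    have h1 := (act s).toMonoidHom.map_isConj hg
    rwa [show (act s).toMonoidHom y = y from hy s] at h1
  have e := congrArg Subtype.val (Subsingleton.elim
    (⟨ConjClasses.mk x, hmem x hx⟩ : {K : ConjClasses N // ∀ s g, ConjClasses.mk g = K →
      ConjClasses.mk (act s g) = K}) ⟨ConjClasses.mk 1, hmem 1 fun s => map_one _⟩)
  exact isConj_one_left.1 (ConjClasses.mk_eq_mk_iff_isConj.1 e)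

end Count

variable {G : Type u} [Group G] [Fintype G] {p : ℕ} [Fact p.Prime] {H D : Subgroup G} [Fintype D]
  [D.Normal]

theorem not_dvd_of_le {K : Subgroup G} (hD : ¬ p ∣ Nat.card D) (hK : K ≤ D) :
    ¬ p ∣ Nat.card K :=
  fun h => hD (h.trans (Subgroup.card_dvd_of_le hK))

/-- An extension of an invariant character is constant on `t K` when `K` is a normal subgroup of
`C_D(t)` without fixed points of `H`. -/
theorem apply_mul_eq_of_fixed_trivial (hH : IsPGroup p H) (hab : IsMulCommutative H)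
    (hD : ¬ p ∣ Nat.card D) {χ : IrrCharacter G}
    (hres : IsIrrCharacter D fun d : D => (χ : G → ℂ) d)
    (hdet : (detOrder (χ : G → ℂ)).Coprime (Nat.card H)) {t : G} (ht : t ∈ H) {K : Subgroup G}
    (hKD : K ≤ D) (hKt : K ≤ Subgroup.centralizer ({t} : Set G))
    (hKn : D ⊓ Subgroup.centralizer ({t} : Set G) ≤ Subgroup.normalizer (K : Set G))
    (hHK : H ≤ Subgroup.normalizer (K : Set G))
    (hfix : ∀ k ∈ K, (∀ h ∈ H, h * k = k * h) → k = 1) :
    (χ : G → ℂ) t ≠ 0 ∧ ∀ k ∈ K, (χ : G → ℂ) (t * k) = (χ : G → ℂ) t := by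
  classical
  have htN : Subgroup.zpowers t ≤ Subgroup.normalizer (D : Set G) := by
    rw [Subgroup.normalizer_eq_top]; exact le_top
  set Γ : Subgroup G := D ⊔ Subgroup.zpowers t with hΓ
  haveI : Fintype Γ := Fintype.ofFinite Γ
  set D' : Subgroup Γ := D.subgroupOf Γ with hD'
  haveI : D'.Normal := inferInstanceAs (D.subgroupOf Γ).Normal
  haveI : Fintype D' := Fintype.ofFinite D'
  set s : Γ := ⟨t, Subgroup.mem_sup_right (Subgroup.mem_zpowers t)⟩ with hs
  set S : Subgroup Γ := Subgroup.zpowers s with hS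
  have hSmem : ∀ x : Γ, x ∈ S ↔ (x : G) ∈ Subgroup.zpowers t := fun x => by
    constructor
    · rintro ⟨k, rfl⟩
      exact ⟨k, by simp [hs]⟩
    · rintro ⟨k, hk⟩
      exact ⟨k, Subtype.ext (by simpa [hs] using hk)⟩
  have hcardD : Nat.card D' = Nat.card D :=
    Nat.card_congr (Subgroup.subgroupOfEquivOfLe le_sup_left).toEquiv
  have hcardS : Nat.card S = orderOf t := by
    rw [hS, Nat.card_zpowers]
    exact (orderOf_injective Γ.subtype Subtype.val_injective s).symm
  have hSH : Nat.card S ∣ Nat.card H := by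
    rw [hcardS]
    exact Subgroup.orderOf_dvd_natCard H ht
  have hcop : (Nat.card D').Coprime (Nat.card S) := by
    rw [hcardD]
    exact (coprime_of_not_dvd hH hD).symm.coprime_dvd_right hSH
  have hc : Subgroup.IsComplement' D' S := by
    refine Subgroup.isComplement'_of_disjoint_and_mul_eq_univ
      (disjoint_iff.2 (Subgroup.inf_eq_bot_of_coprime hcop)) (Set.eq_univ_of_forall fun x => ?_)
    have hx : (x : G) ∈ Subgroup.zpowers t ⊔ D := by
      rw [sup_comm]; exact x.2
    obtain ⟨a, ha, d, hd, e⟩ := CfsgLib.Coprime.exists_mul_of_mem_sup htN hx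
    refine ⟨⟨a * d * a⁻¹, Subgroup.mem_sup_left ((inferInstance : D.Normal).conj_mem d hd a)⟩,
      Subgroup.mem_subgroupOf.2 ((inferInstance : D.Normal).conj_mem d hd a),
      ⟨a, Subgroup.mem_sup_right ha⟩, (hSmem _).2 ha, Subtype.ext ?_⟩
    show a * d * a⁻¹ * a = (x : G)
    rw [e, inv_mul_cancel_right]
  -- the restriction to `Γ` is the canonical extension of its restriction to `D'`
  set θ : D' → ℂ := fun g => (χ : G → ℂ) ((g : Γ) : G) with hθ
  have hθirr : IsIrrCharacter D' θ :=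
    isIrrCharacter_comp_equiv hres (Subgroup.subgroupOfEquivOfLe (le_sup_left : D ≤ Γ))
  have hχΓc : IsCharacter Γ ((χ : G → ℂ) ∘ Γ.subtype) := isCharacter_comp (irr_isCharacter χ) _
  have hχΓ : IsIrrCharacter Γ ((χ : G → ℂ) ∘ Γ.subtype) :=
    CfsgLib.CharExtension.isIrrCharacter_of_restrict D' hχΓc hθirr
  have ho : (detOrder ((χ : G → ℂ) ∘ Γ.subtype)).Coprime (Nat.card S) := by
    refine Nat.Coprime.coprime_dvd_right hSH (Nat.Coprime.coprime_dvd_left ?_ hdet)
    obtain ⟨n, ρ, hρ, hρc⟩ := χ.2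
    haveI := hρ
    obtain ⟨m, τ, hτ, hτc⟩ := hχΓ
    haveI := hτ
    have hdetG : ∀ g, detChar (χ : G → ℂ) g = LinearMap.det (ρ g) := fun g => by
      rw [← hρc, CfsgLib.CharExtension.detChar_eq]
    have hdetΓ : detChar ((χ : G → ℂ) ∘ Γ.subtype) = detChar (χ : G → ℂ) ∘ Γ.subtype := by
      funext x
      rw [← hτc, CfsgLib.CharExtension.detChar_eq, Function.comp_apply, hdetG]
      show LinearMap.det (τ x) = _
      obtain ⟨φ⟩ := CfsgLib.CharExtension.nonempty_equiv_of_char_eq τ (ρ.comp Γ.subtype)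
        (by rw [hτc, ← hρc]; rfl)
      rw [← LinearMap.det_conj (τ x) φ.toLinearEquiv]
      congr 1
      refine LinearMap.ext fun v => ?_
      have h := LinearMap.congr_fun (φ.toIntertwiningMap.isIntertwining' x)
        (φ.toLinearEquiv.symm v)
      have e : φ.toLinearEquiv (φ.toLinearEquiv.symm v) = v := φ.toLinearEquiv.apply_symm_apply v
      exact h.trans (congrArg ((ρ.comp Γ.subtype) x) e)
    unfold detOrder
    refine orderOf_dvd_of_pow_eq_one ?_
    rw [hdetΓ]
    funext x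
    exact congrFun (pow_orderOf_eq_one (detChar (χ : G → ℂ))) (Γ.subtype x)
  set C : Subgroup Γ := D' ⊓ Subgroup.centralizer (S : Set Γ) with hC
  haveI : Fintype C := Fintype.ofFinite C
  obtain ⟨β, ε, hε, -, hsl⟩ :=
    CfsgLib.CyclicGlauberman.exists_beta hc hcop hC hχΓ hθirr (fun g => rfl) ho hS.symm
  have hval : ∀ c : C, (χ : G → ℂ) (((c : Γ) : G) * t) = (ε : ℂ) * (β : C → ℂ) c :=
    fun c => congrFun (hsl s hS.symm) c
  have hε0 : (ε : ℂ) ≠ 0 := by
    rcases hε with h | h <;> simp [h]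
  have hCmem : ∀ x : Γ, x ∈ C ↔ (x : G) ∈ D ∧ (x : G) * t = t * x := fun x => by
    constructor
    · rintro ⟨h1, h2⟩
      exact ⟨h1, congrArg Subtype.val
        (Subgroup.mem_centralizer_iff.1 h2 s (Subgroup.mem_zpowers s)).symm⟩
    · rintro ⟨h1, h2⟩
      refine ⟨h1, Subgroup.mem_centralizer_iff.2 fun y hy => ?_⟩
      obtain ⟨k, rfl⟩ := hy
      exact ((Commute.zpow_right (show Commute x s from Subtype.ext h2) k).eq).symm
  -- `H` acts on `C`
  have hHΓ : ∀ a ∈ H, ∀ x ∈ Γ, a * x * a⁻¹ ∈ Γ := by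
    intro a ha x hx
    rw [hΓ, sup_comm] at hx
    obtain ⟨b, hb, d, hd, rfl⟩ := CfsgLib.Coprime.exists_mul_of_mem_sup htN hx
    have hb' : a * b = b * a :=
      (commute_of_mem hab ha (Subgroup.zpowers_le.2 ht hb)).eq
    rw [← mul_assoc a b d, hb', show b * a * d * a⁻¹ = b * (a * d * a⁻¹) by group]
    exact mul_mem (Subgroup.mem_sup_right hb)
      (Subgroup.mem_sup_left ((inferInstance : D.Normal).conj_mem d hd a))
  let actΓ : H →* MulAut Γ := subgroupAct Γ H hHΓ
  have hHC : ∀ (a : H), ∀ x ∈ C, actΓ a x ∈ C := by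
    intro a x hx
    obtain ⟨h1, h2⟩ := (hCmem x).1 hx
    refine (hCmem _).2 ⟨(inferInstance : D.Normal).conj_mem _ h1 a, ?_⟩
    show (a : G) * x * (a : G)⁻¹ * t = t * ((a : G) * x * (a : G)⁻¹)
    have hat : Commute (a : G) t := commute_of_mem hab a.2 ht
    calc (a : G) * x * (a : G)⁻¹ * t = (a : G) * x * (t * (a : G)⁻¹) := by
          rw [mul_assoc _ _ t, hat.inv_left.eq]
      _ = (a : G) * ((x : G) * t) * (a : G)⁻¹ := by group
      _ = ((a : G) * t) * x * (a : G)⁻¹ := by rw [h2]; group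
      _ = _ := by rw [hat.eq]; group
  let actC : H →* MulAut C := restrictAct actΓ C hHC
  have hβinv : Inv actC β := fun a c => by
    refine mul_left_cancel₀ hε0 ?_
    rw [← hval, ← hval]
    show (χ : G → ℂ) ((a : G) * ((c : Γ) : G) * (a : G)⁻¹ * t) = _
    rw [show (a : G) * ((c : Γ) : G) * (a : G)⁻¹ * t =
      (a : G) * (((c : Γ) : G) * t) * (a : G)⁻¹ by
        rw [mul_assoc _ _ t, ((commute_of_mem hab a.2 ht).inv_left).eq]; group]
    exact irr_isClassFunction χ _ _
  let ι : C →* G := Γ.subtype.comp C.subtype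
  set N : Subgroup C := K.comap ι with hN
  haveI : Fintype N := Fintype.ofFinite N
  haveI hNn : N.Normal := ⟨fun x hx c => by
    show ι (c * x * c⁻¹) ∈ K
    rw [map_mul, map_mul, map_inv]
    refine (Subgroup.mem_normalizer_iff.1 (hKn ⟨((hCmem _).1 c.2).1, ?_⟩) _).1 hx
    exact Subgroup.mem_centralizer_singleton_iff.2 ((hCmem _).1 c.2).2⟩
  have hNst : ∀ a : H, ∀ x ∈ N, actC a x ∈ N := fun a x hx =>
    (Subgroup.mem_normalizer_iff.1 (hHK a.2) _).1 hx
  have hCp : ¬ p ∣ Nat.card C := fun h => hD (hcardD ▸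
    h.trans (Subgroup.card_dvd_of_le inf_le_left))
  have hNp : ¬ p ∣ Nat.card N := fun h => hCp (h.trans (Subgroup.card_subgroup_dvd_card _))
  have hsolv : Group.IsSolvable H :=
    Group.isSolvable_of_comm fun a b => hab.is_comm.comm a b
  obtain ⟨φ, hφ, hφinv⟩ := CfsgLib.CoprimeFixed.exists_inv_constituent actC N hNst
    ((coprime_of_pgroup hH hCp).coprime_dvd_left
      (Subgroup.index_dvd_card N)) (Or.inl hsolv) β hβinv
  have hφ1 : φ = principalIrr N :=
    eq_principal_of_fixed_trivial _ hH hsolv hNp (fun x hx => Subtype.ext (Subtype.ext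
      (Subtype.ext (hfix _ x.2 fun a ha => mul_inv_eq_iff_eq_mul.1
        (congrArg (fun z : N => (((z : C) : Γ) : G)) (hx ⟨a, ha⟩)))))) hφinv
  have hcliff := CfsgLib.Clifford.clifford hNn β.2 φ.2 hφ
  have hone : ∀ n : N, (β : C → ℂ) (n : C) = (β : C → ℂ) 1 := by
    intro n
    rw [show (β : C → ℂ) 1 = (fun n : N => (β : C → ℂ) n) 1 from rfl,
      show (β : C → ℂ) (n : C) = (fun n : N => (β : C → ℂ) n) n from rfl, hcliff, hφ1]
    simp only [Pi.smul_apply, Finset.sum_apply]
    congr 1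
    refine Finset.sum_congr rfl fun ψ hψ => ?_
    obtain ⟨g, rfl⟩ := (CfsgLib.Clifford.conjOrbit_finite hNn _).mem_toFinset.1 hψ
    simp [CfsgLib.Clifford.conjChar]
  have ht1 : (χ : G → ℂ) t = (ε : ℂ) * (β : C → ℂ) 1 := by
    have h := hval 1
    simpa using h
  refine ⟨ht1 ▸ mul_ne_zero hε0 (irr_one_ne_zero β), fun k hk => ?_⟩
  have hkt : k * t = t * k := Subgroup.mem_centralizer_singleton_iff.1 (hKt hk)
  have hkC : (⟨k, Subgroup.mem_sup_left (hKD hk)⟩ : Γ) ∈ C := (hCmem _).2 ⟨hKD hk, hkt⟩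
  have h := hone ⟨⟨_, hkC⟩, hk⟩
  rw [ht1, ← h, ← hval, hkt]

omit [Fintype D] in
/-- `H ⊔ D` everything: a complement of a pair lies in `D`. -/
theorem compl_le_normal (hH : IsPGroup p H) (hab : IsMulCommutative H)
    (hsp : PairSplit H p) (hD : ¬ p ∣ Nat.card D) (hDH : H ⊔ D = ⊤) (g : G) :
    compl hH hab hsp g ≤ D := by
  intro r hr
  have hHD : H ≤ Subgroup.normalizer (D : Set G) := by
    rw [Subgroup.normalizer_eq_top]; exact le_top
  obtain ⟨h, hh, d, hd, rfl⟩ := CfsgLib.Coprime.exists_mul_of_mem_sup hHD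
    (show r ∈ H ⊔ D by rw [hDH]; trivial)
  rw [eq_one_of_regular hH (inf_eq_bot_of_not_dvd hH hD) hh (hHD hh) hd
    (not_dvd_orderOf_of_mem (compl_not_dvd hH hab hsp g) hr), one_mul]
  exact hd

/-- An extremely closed `H` generating `G = H D` has no fixed points on `D`, given the same for
the centralisers of the nonidentity elements of `H`. -/
theorem eq_one_of_commute_of_split (hp : p ≠ 2) (hH : IsPGroup p H) (hab : IsMulCommutative H)
    (hcl : Cfsg.IsExtremelyClosed H) (htop : Subgroup.normalClosure (H : Set G) = ⊤)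
    (hD : ¬ p ∣ Nat.card D) (hDH : H ⊔ D = ⊤)
    (hloc : ∀ t ∈ H, t ≠ 1 → ∃ L : Subgroup G, L ≤ Subgroup.centralizer ({t} : Set G) ∧
      Subgroup.centralizer ({t} : Set G) ≤ Subgroup.normalizer (L : Set G) ∧ H ≤ L ∧
      L ⊓ Subgroup.normalizer (H : Set G) ≤ H)
    {c : G} (hc : c ∈ D) (hcomm : ∀ h ∈ H, h * c = c * h) : c = 1 := by
  classical
  have hsp := split_of_closed hH hab hcl
  rcases eq_or_ne H ⊥ with hH1 | hH1
  · have h1 : Subgroup.normalClosure (H : Set G) = ⊥ := by
      rw [hH1]; exact le_bot_iff.1 (Subgroup.normalClosure_le_normal le_rfl)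
    rw [h1] at htop
    exact Subgroup.mem_bot.1 (by rw [htop]; trivial)
  obtain ⟨t₀, ht₀, ht₀1⟩ := H.bot_or_exists_ne_one.resolve_left hH1
  have hnorm : ∀ a ∈ H, ∀ x ∈ D, a * x * a⁻¹ ∈ D :=
    fun a _ x hx => (inferInstance : D.Normal).conj_mem x hx a
  have hsolv : Group.IsSolvable H :=
    Group.isSolvable_of_comm fun a b => hab.is_comm.comm a b
  have hfixall : ∀ x : D, (∀ a : H, subgroupAct D H hnorm a x = x) → x = 1 := fun x hx => by
    refine fixed_trivial_of_eq_principal _ hH hsolv hD ?_ hx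
    intro θ hθ
    have hcD : Subgroup.IsComplement' D H :=
      Subgroup.isComplement'_of_disjoint_and_mul_eq_univ
        (disjoint_iff.2 (by rw [inf_comm]; exact inf_eq_bot_of_not_dvd hH hD))
        (by rw [← Subgroup.normal_mul, sup_comm, hDH, Subgroup.coe_top])
    have hinvG : ∀ (x : G) (g : D),
        (θ : D → ℂ) ⟨x * g * x⁻¹, (inferInstance : D.Normal).conj_mem g g.2 x⟩ =
          (θ : D → ℂ) g := by
      intro x g
      obtain ⟨⟨a, h⟩, hah⟩ := hcD.2 x
      have hah' : (a : G) * (h : G) = x := hah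
      rw [← hθ h g]
      refine Eq.trans ?_ (irr_isClassFunction θ _ a)
      refine congrArg (θ : D → ℂ) (Subtype.ext ?_)
      show x * g * x⁻¹ = a * (h * g * (h : G)⁻¹) * (a : G)⁻¹
      rw [← hah']
      group
    obtain ⟨χ, hχD, hdet⟩ := CfsgLib.CyclicGlauberman.exists_canonical hcD
      (coprime_of_not_dvd hH hD).symm θ hinvG
    have hres : IsIrrCharacter D fun d : D => (χ : G → ℂ) d := by rw [funext hχD]; exact θ.2
    -- constancy on the cosets of the complements
    have hval : ∀ t ∈ H, t ≠ 1 → (χ : G → ℂ) t ≠ 0 ∧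
        ∀ g, ∀ r ∈ compl hH hab hsp g, (χ : G → ℂ) (t * r) = (χ : G → ℂ) t := by
      intro t ht ht1
      obtain ⟨L, hLC, hCL, hHL, hLN⟩ := hloc t ht ht1
      set C := Subgroup.centralizer ({t} : Set G) with hCdef
      have hHC : H ≤ C := hHL.trans hLC
      have hnormK : C ≤ Subgroup.normalizer ((L ⊓ D : Subgroup G) : Set G) := fun v hv =>
        CfsgLib.Coprime.mem_normalizer_of_forall_conj fun y hy =>
          ⟨(Subgroup.mem_normalizer_iff.1 (hCL hv) y).1 hy.1,
            (inferInstance : D.Normal).conj_mem y hy.2 v⟩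
      obtain ⟨h0, hK⟩ := apply_mul_eq_of_fixed_trivial hH hab hD hres hdet ht
        (K := L ⊓ D) inf_le_right (inf_le_left.trans hLC) (inf_le_right.trans hnormK)
        (hHC.trans hnormK) fun k hk hkc => Subgroup.mem_bot.1 (by
          rw [← inf_eq_bot_of_not_dvd hH hD]
          exact ⟨hLN ⟨hk.1, CfsgLib.Coprime.mem_normalizer_of_forall_conj fun y hy => by
            rwa [← hkc y hy, mul_inv_cancel_right]⟩, hk.2⟩)
      refine ⟨h0, fun g r hr => ?_⟩
      obtain ⟨x, _, c, hc, hct, e⟩ := exists_conj_coset (compl_not_dvd hH hab hsp g)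
        (exists_pow_of_mem hH ht) (le_normalizer_compl hH hab hsp g ht) hr
      rw [e, irr_isClassFunction χ (t * c) x]
      refine hK c ?_
      set R := compl hH hab hsp g
      set C1 := R ⊓ C with hC1
      have hcC : c ∈ C := Subgroup.mem_centralizer_singleton_iff.2 hct.symm.eq
      have hHR : H ≤ Subgroup.normalizer (R : Set G) := le_normalizer_compl hH hab hsp g
      have hHC1 : H ≤ Subgroup.normalizer (C1 : Set G) := fun v hv =>
        CfsgLib.Coprime.mem_normalizer_of_forall_conj fun y hy =>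
          ⟨(Subgroup.mem_normalizer_iff.1 (hHR hv) y).1 hy.1,
            C.mul_mem (C.mul_mem (hHC hv) hy.2) (C.inv_mem (hHC hv))⟩
      have hfix : ∀ a ∈ H, c⁻¹ * (a * c * a⁻¹) ∈ C1 ⊓ (L ⊓ D) := by
        intro a ha
        have h1 : a * c * a⁻¹ ∈ C1 := (Subgroup.mem_normalizer_iff.1 (hHC1 ha) c).1 ⟨hc, hcC⟩
        have h2 : c⁻¹ * (a * c * a⁻¹) ∈ C1 := C1.mul_mem (C1.inv_mem ⟨hc, hcC⟩) h1
        refine ⟨h2, ?_, compl_le_normal hH hab hsp hD hDH g h2.1⟩
        rw [show c⁻¹ * (a * c * a⁻¹) = (c⁻¹ * a * c) * a⁻¹ by group]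
        exact mul_mem ((Subgroup.mem_normalizer_iff''.1 (hCL hcC) a).1 (hHL ha))
          (hHL (H.inv_mem ha))
      obtain ⟨c', hc', hcN⟩ := CfsgLib.Coprime.exists_centralizing_rep H C1 hHC1
        ((coprime_of_not_dvd hH (compl_not_dvd hH hab hsp g)).coprime_dvd_right
          (Subgroup.card_dvd_of_le inf_le_left))
        (Or.inl hsolv) (C1 ⊓ (L ⊓ D)) inf_le_left
        (fun v hv => CfsgLib.Coprime.mem_normalizer_of_forall_conj fun y hy =>
          ⟨(Subgroup.mem_normalizer_iff.1 (hHC1 hv) y).1 hy.1,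
            (Subgroup.mem_normalizer_iff.1 (hnormK (hHC hv)) y).1 hy.2⟩)
        (k := c) ⟨hc, hcC⟩ hfix
      have hc'1 : c' = 1 := compl_fixed hH hab hsp hcl g hc'.1.1 fun v hv =>
        Subgroup.mem_centralizer_iff.1 hc'.2 v hv
      rw [hc'1, mul_one] at hcN
      exact inv_mem_iff.1 hcN.2
    -- multiplicativity
    have hprod : ∀ a ∈ H, ∀ b ∈ H, a * b ≠ 1 →
        (χ : G → ℂ) (a * b) * (χ : G → ℂ) 1 = (χ : G → ℂ) a * (χ : G → ℂ) b := by
      intro a ha b hb hab1
      have hterm : ∀ y ∈ cls b, (χ : G → ℂ) (a * y) = (χ : G → ℂ) (a * b) := by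
        intro y hy
        obtain ⟨e, rfl⟩ := isConj_iff.1 (mem_cls.1 hy)
        obtain ⟨s, hs, r, hr, hd⟩ := exists_decomp hH hab hsp (conj_mem_pair e hb)
        have hsb : s = b := by
          obtain ⟨⟨d, h⟩, hdh⟩ := hcD.2 e
          have hdh' : (d : G) * (h : G) = e := hdh
          have e1 : (h : G) * b * (h : G)⁻¹ = b := by
            rw [(commute_of_mem hab h.2 hb).eq, mul_inv_cancel_right]
          have hb1 : b⁻¹ * (e * b * e⁻¹) ∈ D := by
            rw [← hdh', show b⁻¹ * ((d : G) * h * b * ((d : G) * h)⁻¹) =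
              (b⁻¹ * d * b) * (b⁻¹ * (h * b * (h : G)⁻¹)) * (d : G)⁻¹ by group, e1,
              inv_mul_cancel, mul_one]
            refine mul_mem ?_ (inv_mem d.2)
            simpa using (inferInstance : D.Normal).conj_mem (d : G) d.2 b⁻¹
          have h2 : b⁻¹ * s ∈ H ⊓ D := ⟨H.mul_mem (H.inv_mem hb) hs, by
            rw [show b⁻¹ * s = b⁻¹ * (e * b * e⁻¹) * r⁻¹ by rw [hd]; group]
            exact D.mul_mem hb1 (D.inv_mem (compl_le_normal hH hab hsp hD hDH e hr))⟩
          rw [inf_eq_bot_of_not_dvd hH hD, Subgroup.mem_bot, inv_mul_eq_one] at h2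
          exact h2.symm
        rw [hd, hsb, ← mul_assoc]
        exact (hval _ (H.mul_mem ha hb) hab1).2 e r hr
      have h := sum_cls_value χ a b
      rw [Finset.sum_congr rfl hterm, Finset.sum_const, nsmul_eq_mul, mul_assoc] at h
      rw [mul_left_cancel₀ (Nat.cast_ne_zero.2 (card_cls_pos b).ne') h]
      field_simp [irr_one_ne_zero χ]
    -- full absolute value
    have hsq : t₀ * t₀ ≠ 1 := by
      intro e
      obtain ⟨j, hj⟩ := exists_pow_of_mem hH ht₀
      have h3 := orderOf_dvd_of_pow_eq_one (show t₀ ^ 2 = 1 by rw [sq, e])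
      rw [hj] at h3
      rcases j with _ | j
      · exact ht₀1 (orderOf_eq_one_iff.1 (by simpa using hj))
      · exact hp ((Nat.prime_dvd_prime_iff_eq (Fact.out : p.Prime) Nat.prime_two).1
          ((dvd_pow_self p j.succ_ne_zero).trans h3))
    have h1 := hprod t₀ ht₀ t₀ ht₀ hsq
    have h2 := hprod (t₀ * t₀) (H.mul_mem ht₀ ht₀) t₀⁻¹ (H.inv_mem ht₀)
      (by rwa [mul_inv_cancel_right])
    rw [mul_inv_cancel_right] at h2
    have h3 : (χ : G → ℂ) t₀ * (χ : G → ℂ) t₀⁻¹ = (χ : G → ℂ) 1 ^ 2 := by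
      refine mul_left_cancel₀ (hval t₀ ht₀ ht₀1).1 ?_
      linear_combination (-(χ : G → ℂ) 1) * h2 - (χ : G → ℂ) t₀⁻¹ * h1
    have hnorm1 : ‖(χ : G → ℂ) t₀‖ = ‖(χ : G → ℂ) 1‖ := by
      have h4 := congrArg norm h3
      rw [irr_apply_inv, norm_mul, Complex.norm_conj, norm_pow, ← sq] at h4
      exact (pow_left_inj₀ (norm_nonneg _) (norm_nonneg _) two_ne_zero).1 h4
    obtain ⟨n, ρ, hρ, hρc⟩ := χ.2
    haveI := hρ
    have hn : 0 < n := CfsgLib.CharExtension.pos_of_irreducible ρ
    have hρ1 : (χ : G → ℂ) 1 = (n : ℂ) := by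
      rw [← hρc, Representation.char_one, Module.finrank_fin_fun]
    rw [hρ1, Complex.norm_natCast] at hnorm1
    have hker : ∀ g, ∀ r ∈ compl hH hab hsp g, ρ r = 1 := fun g r hr =>
      apply_eq_id_of_scalar ρ (by rwa [hρc]) hn (by rw [hρc]; exact (hval t₀ ht₀ ht₀1).2 g r hr)
    let T : Subgroup G :=
      { carrier := {d | d ∈ D ∧ ρ d = 1}
        one_mem' := ⟨D.one_mem, map_one ρ⟩
        mul_mem' := fun {a b} ha hb => ⟨D.mul_mem ha.1 hb.1, by rw [map_mul, ha.2, hb.2, mul_one]⟩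
        inv_mem' := fun {a} ha => ⟨D.inv_mem ha.1, by
          have := map_mul ρ a a⁻¹
          rw [mul_inv_cancel, map_one, ha.2, one_mul] at this
          exact this.symm⟩ }
    haveI hTn : T.Normal := ⟨fun x hx g => ⟨(inferInstance : D.Normal).conj_mem x hx.1 g, by
      rw [map_mul, map_mul, hx.2, mul_one, ← map_mul, mul_inv_cancel, map_one]⟩⟩
    have hall : H ⊔ T = ⊤ := by
      rw [eq_top_iff, ← htop, Subgroup.normalClosure, Subgroup.closure_le]
      intro z hz
      obtain ⟨y, hy, hyz⟩ := Group.mem_conjugatesOfSet_iff.1 hz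
      obtain ⟨e, rfl⟩ := isConj_iff.1 hyz
      obtain ⟨t, ht, r, hr, hd⟩ := exists_decomp hH hab hsp (conj_mem_pair e hy)
      rw [hd]
      exact Subgroup.mul_mem_sup ht
        ⟨compl_le_normal hH hab hsp hD hDH e hr, hker e r hr⟩
    have hDT : ∀ d : D, ρ (d : G) = 1 := by
      intro d
      obtain ⟨h, hh, k, hk, e⟩ := CfsgLib.Coprime.exists_mul_of_mem_sup
        (show H ≤ Subgroup.normalizer (T : Set G) by rw [Subgroup.normalizer_eq_top]; exact le_top)
        (show (d : G) ∈ H ⊔ T by rw [hall]; trivial)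
      have h1 : h ∈ H ⊓ D := ⟨hh, by
        rw [show h = (d : G) * k⁻¹ by rw [e]; group]
        exact D.mul_mem d.2 (D.inv_mem hk.1)⟩
      rw [inf_eq_bot_of_not_dvd hH hD, Subgroup.mem_bot] at h1
      rw [e, h1, one_mul]
      exact hk.2
    have hconst : (θ : D → ℂ) = fun _ => (n : ℂ) := funext fun d => by
      rw [← hχD, ← hρc]
      show LinearMap.trace ℂ _ (ρ (d : G)) = _
      rw [hDT d, LinearMap.trace_one, Module.finrank_fin_fun]
    by_contra hne
    have h5 := classInner_irr_ne θ.2 (principalIrr D).2 fun e => hne (Subtype.ext e)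
    rw [hconst] at h5
    simp [classInner, Finset.card_univ, Nat.card_eq_fintype_card, hn.ne'] at h5
  exact congrArg Subtype.val (hfixall ⟨c, hc⟩ fun a =>
    Subtype.ext (mul_inv_eq_iff_eq_mul.2 (hcomm a a.2)))

end CfsgLib.ExtClosed
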