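import Cfsg.Agent.Lib.ExtClosed.Moment
import Cfsg.Agent.Lib.CharCorr.Basic

/-!
The principal block theorem: with trivial `p'`-core, a generating extremely closed abelian
`p`-subgroup without central elements in the local situation is the whole group.
-/

set_option autoImplicit false
set_option linter.style.haveILetI false

namespace CfsgLib.ExtClosed

open Cfsg CfsgLib.Characters CfsgLib.Blocks
open scoped ComplexConjugate

universe u

variable {G : Type u} [Group G] [Fintype G] {p : ℕ} [Fact p.Prime] {H : Subgroup G}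
  {M : Ideal AlgInt}

section

variable (hH : IsPGroup p H) (hab : IsMulCommutative H) (hsp : PairSplit H p)
  (hM : IsPModular p M) (hloc : LocalHyp H p)
  (hZ : ∀ t ∈ H, t ≠ 1 → Subgroup.centralizer ({t} : Set G) ≠ ⊤)

include hH hab hsp hM hloc hZ

/-- The second moment inequality at `b`. -/
theorem moment_le {g₁ g₂ : G} (htri : pair H g₁ ⊔ pair H g₂ = ⊤) {b : G} (hb : b ∈ H)
    (hb1 : b ≠ 1) :
    ∑ a ∈ nonid H, bnorm M a - bnorm M b ≤
      ((hcls H b).card : ℝ) * ((nonid H).card : ℝ) * ((linset M G).card : ℝ) +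
        (∑ a ∈ nonid H, bnorm M a) / 8 := by
  classical
  set m : ℝ := ((hcls H b).card : ℝ)
  set v : ℝ := ((cls b).card : ℝ)
  set L : ℝ := ((linset M G).card : ℝ)
  set T : ℝ := ∑ a ∈ nonid H, bnorm M a
  have hbm : b ∈ hcls H b := mem_hcls.2 ⟨mem_nonid.2 ⟨hb, hb1⟩, IsConj.refl b⟩
  set c : ℝ := (((cls b).filter (fun y => proj H p y = b)).card : ℝ)
  have hmc : m * c = v := by
    simp only [m, c, v]
    exact_mod_cast card_fiber hH hab hsp hb hb1 hbm
  have hm0 : 0 < m := by
    simp only [m]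
    exact_mod_cast Finset.card_pos.2 ⟨b, hbm⟩
  have hv0 : 0 < v := by
    simp only [v]
    exact_mod_cast card_cls_pos b
  -- the upper bound at a fixed `a`
  have hup : ∀ a ∈ nonid H,
      ∑ χ ∈ bset M G, (‖(χ : G → ℂ) b‖ / ‖(χ : G → ℂ) 1‖) ^ 2 * ‖(χ : G → ℂ) a‖ ^ 2 ≤
        L + bnorm M a / (8 * m) := by
    intro a _
    have hle : ∀ χ ∈ bset M G, (‖(χ : G → ℂ) b‖ / ‖(χ : G → ℂ) 1‖) ^ 2 * ‖(χ : G → ℂ) a‖ ^ 2 ≤
        (if χ ∈ linset M G then 1 else 0) + ‖(χ : G → ℂ) a‖ ^ 2 / (8 * m) := by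
      intro χ hχ
      have h0 : 0 ≤ ‖(χ : G → ℂ) a‖ ^ 2 / (8 * m) := by positivity
      split_ifs with hl
      · rw [norm_linear (mem_linset.1 hl).2, norm_linear (mem_linset.1 hl).2,
          norm_linear (mem_linset.1 hl).2] at *
        norm_num
        linarith
      · have h := eight_card_mul_sq_le hH hab hsp hM hloc hZ htri hχ
          (fun h1 => hl (mem_linset.2 ⟨hχ, h1⟩)) b
        have hd : 0 < ‖(χ : G → ℂ) 1‖ := norm_pos_iff.2 (irr_one_ne_zero χ)
        have hβ : (‖(χ : G → ℂ) b‖ / ‖(χ : G → ℂ) 1‖) ^ 2 ≤ 1 / (8 * m) := by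
          rw [div_pow, div_le_div_iff₀ (by positivity) (by positivity)]
          linarith
        rw [zero_add]
        calc _ ≤ 1 / (8 * m) * ‖(χ : G → ℂ) a‖ ^ 2 :=
              mul_le_mul_of_nonneg_right hβ (by positivity)
          _ = _ := by ring
    refine le_trans (Finset.sum_le_sum hle) (le_of_eq ?_)
    rw [Finset.sum_add_distrib, ← Finset.sum_div]
    simp only [L, bnorm]
    congr 1
    rw [Finset.sum_boole]
    congr 2
    ext χ
    simp only [Finset.mem_filter, mem_linset]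
    tauto
  -- sum over `a`
  have hsum : ∑ a ∈ nonid H, ∑ y ∈ (cls b).filter (fun y => a * proj H p y ≠ 1),
      c * bnorm M (a * proj H p y) = c * v * (T - bnorm M b) := by
    simp only [Finset.sum_filter]
    rw [Finset.sum_comm]
    have hy : ∀ y ∈ cls b, (∑ a ∈ nonid H,
        if a * proj H p y ≠ 1 then c * bnorm M (a * proj H p y) else 0) =
          c * (T - bnorm M b) := by
      intro y hy
      have hs := proj_mem_hcls hH hab hsp hb hb1 hy
      obtain ⟨hs1, hs2⟩ := mem_hcls.1 hs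
      rw [← Finset.sum_filter, bnorm_congr hs2, ← Finset.sum_erase_eq_sub hs1, Finset.mul_sum]
      refine Finset.sum_bij (fun a _ => a * proj H p y) ?_ ?_ ?_ (fun _ _ => rfl)
      · intro a ha
        obtain ⟨ha1, ha2⟩ := Finset.mem_filter.1 ha
        refine Finset.mem_erase.2 ⟨fun e => (mem_nonid.1 ha1).2 (by simpa using e),
          mem_nonid.2 ⟨H.mul_mem (mem_nonid.1 ha1).1 (proj_mem y), ha2⟩⟩
      · exact fun _ _ _ _ h => mul_right_cancel h
      · intro t ht
        obtain ⟨ht1, ht2⟩ := Finset.mem_erase.1 ht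
        refine ⟨t * (proj H p y)⁻¹, Finset.mem_filter.2 ⟨mem_nonid.2
          ⟨H.mul_mem (mem_nonid.1 ht2).1 (H.inv_mem (proj_mem y)), fun e => ht1
            (mul_inv_eq_one.1 e)⟩, ?_⟩, by rw [inv_mul_cancel_right]⟩
        rw [inv_mul_cancel_right]
        exact (mem_nonid.1 ht2).2
    rw [Finset.sum_congr rfl hy, Finset.sum_const, nsmul_eq_mul]
    simp only [v]
    ring
  have hfib : ∀ a ∈ nonid H, ∑ y ∈ (cls b).filter (fun y => a * proj H p y ≠ 1),
      c * bnorm M (a * proj H p y) ≤ v ^ 2 * (L + bnorm M a / (8 * m)) := by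
    intro a ha
    refine le_trans (le_of_eq ?_) (le_trans
      (fiber_le hH hab hsp hM hloc hZ (mem_nonid.1 ha).1 hb)
      (mul_le_mul_of_nonneg_left (hup a ha) (by positivity)))
    refine Finset.sum_congr rfl fun y hy => ?_
    have h1 := card_fiber hH hab hsp hb hb1
      (proj_mem_hcls hH hab hsp hb hb1 (Finset.mem_filter.1 hy).1)
    have h2 : m * (((cls b).filter (fun z => proj H p z = proj H p y)).card : ℝ) = v := by
      simp only [m, v]
      exact_mod_cast h1
    rw [← mul_left_cancel₀ hm0.ne' (h2.trans hmc.symm)]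
  have key := Finset.sum_le_sum hfib
  rw [hsum, ← Finset.mul_sum, Finset.sum_add_distrib, Finset.sum_const, nsmul_eq_mul,
    ← Finset.sum_div] at key
  have e : c * v * (T - bnorm M b) = v ^ 2 * ((T - bnorm M b) / m) := by
    rw [← hmc]
    field_simp
  rw [e] at key
  have key2 := le_of_mul_le_mul_left key (by positivity)
  rw [div_le_iff₀ hm0] at key2
  calc T - bnorm M b ≤ (((nonid H).card : ℝ) * L + T / (8 * m)) * m := key2
    _ = _ := by field_simp

/-- Two classes in a subset small against the number of linear characters are impossible. -/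
theorem false_of_two_classes (htop : Subgroup.normalClosure (H : Set G) = ⊤) {g₁ g₂ : G}
    (htri : pair H g₁ ⊔ pair H g₂ = ⊤) (hmin : ∀ x ∈ nonid H, 2 ≤ (hcls H x).card) {b b' : G}
    (hb : b ∈ nonid H) (hb' : b' ∈ nonid H) (hne : ¬ IsConj b b')
    (hlin : ∀ χ ∈ linset M G, (χ : G → ℂ) b = (χ : G → ℂ) b') : False := by
  classical
  set T : ℝ := ∑ a ∈ nonid H, bnorm M a
  have hdisj : Disjoint (hcls H b) (hcls H b') := Finset.disjoint_left.2 fun x hx hx' =>
    hne ((mem_hcls.1 hx).2.trans (mem_hcls.1 hx').2.symm)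
  have hsub : hcls H b ∪ hcls H b' ⊆ nonid H :=
    Finset.union_subset (fun x hx => (mem_hcls.1 hx).1) fun x hx => (mem_hcls.1 hx).1
  have hcl' : ((hcls H b).card : ℝ) * bnorm M b + (hcls H b').card * bnorm M b' ≤ T := by
    have h1 := Finset.sum_le_sum_of_subset_of_nonneg (f := fun x => bnorm M x) hsub
      fun _ _ _ => bnorm_nonneg _
    rw [Finset.sum_union hdisj] at h1
    refine le_trans (le_of_eq ?_) h1
    congr 1 <;>
    · rw [Finset.sum_congr rfl fun x hx => (bnorm_congr (mem_hcls.1 hx).2).symm, Finset.sum_const,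
        nsmul_eq_mul]
  -- both classes lie in one coset of the common kernel
  have hcoset : ((hcls H b).card + (hcls H b').card) * (linset M G).card ≤ Nat.card H := by
    refine le_trans (Nat.mul_le_mul_right _ ?_)
      ((mul_comm _ _).le.trans (card_linset_mul_le htop))
    rw [← Finset.card_union_of_disjoint hdisj, Nat.card_eq_fintype_card, Fintype.card_subtype]
    refine Finset.card_le_card_of_injOn (fun x => b⁻¹ * x) ?_
      fun x _ y _ h => mul_left_cancel h
    intro x hx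
    have hxn := mem_nonid.1 (hsub hx)
    refine Finset.mem_filter.2 ⟨Finset.mem_univ _,
      ⟨H.mul_mem (H.inv_mem (mem_nonid.1 hb).1) hxn.1, fun χ hχ => ?_⟩⟩
    have hval : (χ : G → ℂ) x = (χ : G → ℂ) b := by
      rcases Finset.mem_union.1 hx with h | h
      · exact (classFunction_eq_of_isConj (irr_isClassFunction χ) (mem_hcls.1 h).2).symm
      · rw [hlin χ hχ]
        exact (classFunction_eq_of_isConj (irr_isClassFunction χ) (mem_hcls.1 h).2).symm
    rw [linear_mul (mem_linset.1 hχ).2, hval, ← linear_mul (mem_linset.1 hχ).2, inv_mul_cancel]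
    exact (mem_linset.1 hχ).2
  have k1 := moment_le hH hab hsp hM hloc hZ htri (mem_nonid.1 hb).1 (mem_nonid.1 hb).2
  have k2 := moment_le hH hab hsp hM hloc hZ htri (mem_nonid.1 hb').1 (mem_nonid.1 hb').2
  have hm : (2 : ℝ) ≤ (hcls H b).card := by exact_mod_cast hmin b hb
  have hm' : (2 : ℝ) ≤ (hcls H b').card := by exact_mod_cast hmin b' hb'
  have hSb := bnorm_nonneg (M := M) b
  have hSb' := bnorm_nonneg (M := M) b'
  have hT : ((nonid H).card : ℝ) * (Nat.card H : ℝ) ≤ T := by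
    rw [← nsmul_eq_mul]
    refine Finset.card_nsmul_le_sum _ _ _ fun a ha => ?_
    exact card_le_bnorm hM (exists_pow_of_mem hH (mem_nonid.1 ha).1) hH fun v hv =>
      Subgroup.mem_centralizer_singleton_iff.2 (commute_of_mem hab hv (mem_nonid.1 ha).1).eq
  have hc : (((hcls H b).card : ℝ) + (hcls H b').card) * (linset M G).card ≤ Nat.card H := by
    exact_mod_cast hcoset
  have hn0 : (0 : ℝ) ≤ ((nonid H).card : ℝ) := Nat.cast_nonneg _
  have hh0 : (0 : ℝ) < (Nat.card H : ℝ) := by exact_mod_cast Nat.card_pos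
  have hpos : 0 < ((nonid H).card : ℝ) := by exact_mod_cast Finset.card_pos.2 ⟨b, hb⟩
  nlinarith

/-- A single class of at least two elements besides the identity gives a contradiction. -/
theorem false_of_one_class (hcard : 2 ≤ (nonid H).card) {g₁ g₂ : G} (htri : pair H g₁ ⊔ pair H g₂ = ⊤) {b : G}
    (hb : b ∈ nonid H) (hall : ∀ x ∈ nonid H, IsConj b x) (hL : (linset M G).card = 1) : False := by
  classical
  obtain ⟨hbH, hb1⟩ := mem_nonid.1 hb
  have hcls : hcls H b = nonid H :=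
    Finset.Subset.antisymm (fun x hx => (mem_hcls.1 hx).1) fun x hx =>
      mem_hcls.2 ⟨hx, hall x hx⟩
  set k := (nonid H).card with hk
  have hcardH := card_nonid (H := H)
  have hinv : b⁻¹ ∈ nonid H := mem_nonid.2 ⟨H.inv_mem hbH, inv_ne_one.2 hb1⟩
  have hk2 : 2 ≤ k := hcard
  -- values are real and constant
  have hconst : ∀ χ : IrrCharacter G, ∀ x ∈ nonid H, (χ : G → ℂ) x = (χ : G → ℂ) b := fun χ x hx =>
    (classFunction_eq_of_isConj (irr_isClassFunction χ) (hall x hx)).symm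
  have hreal : ∀ χ : IrrCharacter G, ((((χ : G → ℂ) b).re : ℝ) : ℂ) = (χ : G → ℂ) b := fun χ => by
    refine Complex.conj_eq_iff_re.1 ?_
    rw [← irr_apply_inv]
    exact hconst χ _ hinv
  set d : IrrCharacter G → ℝ := fun χ => ((χ : G → ℂ) 1).re with hd
  set z : IrrCharacter G → ℝ := fun χ => ((χ : G → ℂ) b).re with hz
  have hdC : ∀ χ : IrrCharacter G, ((d χ : ℝ) : ℂ) = (χ : G → ℂ) 1 := fun χ => by
    simp only [hd]
    rw [CfsgLib.CharCorr.irr_one_eq_charDegree]
    simp
  have hd0 : ∀ χ : IrrCharacter G, 0 < d χ := fun χ => by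
    simp only [hd]
    rw [CfsgLib.CharCorr.irr_one_eq_charDegree, Complex.natCast_re]
    exact_mod_cast CfsgLib.CharCorr.charDegree_irr_pos χ
  have hS : bnorm M b = ∑ χ ∈ bset M G, z χ ^ 2 := Finset.sum_congr rfl fun χ _ => by
    rw [← hreal χ, Complex.norm_real, Real.norm_eq_abs, sq_abs]
  -- orthogonality with the identity
  have horth : ∑ χ ∈ bset M G, d χ * z χ = 0 := by
    have h := sum_principal_regular hM (u := (1 : G)) (t := b)
      (by rw [orderOf_one]; exact (Fact.out : p.Prime).not_dvd_one)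
      (dvd_orderOf_of_ne_one (exists_pow_of_mem hH hbH) hb1)
    have : (((∑ χ ∈ bset M G, d χ * z χ : ℝ)) : ℂ) = 0 := by
      rw [Complex.ofReal_sum, ← h]
      refine Finset.sum_congr rfl fun χ _ => ?_
      rw [Complex.ofReal_mul, hdC, hreal, ← irr_apply_inv, hconst χ _ hinv]
    exact_mod_cast this
  -- the third moment
  have hmom : ((k : ℝ) - 1) * bnorm M b = (k : ℝ) * ∑ χ ∈ bset M G, z χ ^ 3 / d χ := by
    have hv : ((cls b).card : ℂ) ≠ 0 := Nat.cast_ne_zero.2 (card_cls_pos b).ne'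
    have key : ∀ y ∈ cls b, ∑ a ∈ nonid H, ∑ χ ∈ bset M G,
        (χ : G → ℂ) (a * y) * conj ((χ : G → ℂ) b) =
          ((k : ℂ) - 1) * (bnorm M b : ℂ) := by
      intro y hy
      obtain ⟨e, rfl⟩ := isConj_iff.1 (mem_cls.1 hy)
      have hye : e * b * e⁻¹ ∈ pair H e := conj_mem_pair e hbH
      set s := proj H p (e * b * e⁻¹)
      have hs : s ∈ nonid H := by
        rw [← hcls]
        exact proj_mem_hcls hH hab hsp hbH hb1 hy
      have hs' : s⁻¹ ∈ nonid H :=
        mem_nonid.2 ⟨H.inv_mem (mem_nonid.1 hs).1, inv_ne_one.2 (mem_nonid.1 hs).2⟩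
      rw [← Finset.add_sum_erase _ _ hs', sum_principal_regular hM
        (proj_regular hH hab hsp hye) (dvd_orderOf_of_ne_one (exists_pow_of_mem hH hbH) hb1),
        zero_add]
      have hterm : ∀ a ∈ (nonid H).erase s⁻¹, ∑ χ ∈ bset M G,
          (χ : G → ℂ) (a * (e * b * e⁻¹)) * conj ((χ : G → ℂ) b) = (bnorm M b : ℂ) := by
        intro a ha
        obtain ⟨ha1, ha2⟩ := Finset.mem_erase.1 ha
        have has : a * s ≠ 1 := fun e => ha1 (eq_inv_of_mul_eq_one_left e)
        rw [bnorm, Complex.ofReal_sum]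
        refine Finset.sum_congr rfl fun χ hχ => ?_
        have := value_coset hH hab hsp hM hloc hZ (mem_bset.1 hχ)
          (H.mul_mem (mem_nonid.1 ha2).1 (mem_nonid.1 hs).1) has (proj_decomp hH hab hsp hye)
        rw [mul_assoc, mul_inv_cancel_left] at this
        rw [this, hconst χ _ (mem_nonid.2 ⟨H.mul_mem (mem_nonid.1 ha2).1 (mem_nonid.1 hs).1, has⟩),
          Complex.mul_conj, Complex.normSq_eq_norm_sq]
      rw [Finset.sum_congr rfl hterm, Finset.sum_const, nsmul_eq_mul,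
        Finset.card_erase_of_mem hs', ← hk, Nat.cast_sub (by omega), Nat.cast_one]
    have h2 : ∀ a ∈ nonid H, ∑ y ∈ cls b, ∑ χ ∈ bset M G,
        (χ : G → ℂ) (a * y) * conj ((χ : G → ℂ) b) =
          ((cls b).card : ℂ) * ((∑ χ ∈ bset M G, z χ ^ 3 / d χ : ℝ) : ℂ) := by
      intro a ha
      rw [Finset.sum_comm, Complex.ofReal_sum, Finset.mul_sum]
      refine Finset.sum_congr rfl fun χ _ => ?_
      rw [← Finset.sum_mul, sum_cls_value, hconst χ a ha, Complex.ofReal_div, Complex.ofReal_pow,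
        hdC, hreal, ← irr_apply_inv, hconst χ _ hinv]
      ring
    have h3 := (Finset.sum_congr rfl h2).symm.trans (Finset.sum_comm.trans
      (Finset.sum_congr rfl key))
    rw [Finset.sum_const, Finset.sum_const, nsmul_eq_mul, nsmul_eq_mul, ← hk] at h3
    have h4 : ((k : ℂ) - 1) * (bnorm M b : ℂ) =
        (k : ℂ) * ((∑ χ ∈ bset M G, z χ ^ 3 / d χ : ℝ) : ℂ) :=
      mul_left_cancel₀ hv (by rw [← h3]; ring)
    exact_mod_cast h4
  -- the principal character
  obtain ⟨χ₀, hχ₀⟩ := Finset.card_eq_one.1 hL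
  have h0 : χ₀ = principalIrr G := by
    have : principalIrr G ∈ linset M G :=
      mem_linset.2 ⟨mem_bset.2 (principalIrr_mem hM), principalIrr_apply 1⟩
    rw [hχ₀, Finset.mem_singleton] at this
    exact this.symm
  have hprin : principalIrr G ∈ bset M G := mem_bset.2 (principalIrr_mem hM)
  have hnon : ∀ χ ∈ (bset M G).erase (principalIrr G),
      4 * (z χ / d χ) ≤ 1 ∧ -(1 : ℝ) ≤ 4 * (z χ / d χ) := by
    intro χ hχ
    obtain ⟨hne, hχ'⟩ := Finset.mem_erase.1 hχ
    have hnl : (χ : G → ℂ) 1 ≠ 1 := fun h1 => by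
      have : χ ∈ linset M G := mem_linset.2 ⟨hχ', h1⟩
      rw [hχ₀, Finset.mem_singleton, h0] at this
      exact hne this
    have h := eight_card_mul_sq_le hH hab hsp hM hloc hZ htri hχ' hnl b
    rw [hcls, ← hk, ← hreal χ, ← hdC χ, Complex.norm_real, Complex.norm_real, Real.norm_eq_abs,
      Real.norm_eq_abs, sq_abs, sq_abs] at h
    have hk2' : (2 : ℝ) ≤ k := by exact_mod_cast hk2
    have h16 : 16 * z χ ^ 2 ≤ d χ ^ 2 := by nlinarith [sq_nonneg (z χ)]
    have hdp := hd0 χ
    constructor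
    · rw [← mul_div_assoc, div_le_one hdp]
      nlinarith
    · rw [← mul_div_assoc, le_div_iff₀ hdp]
      nlinarith
  have hzp : z (principalIrr G) = 1 := by simp [hz]
  have hdp : d (principalIrr G) = 1 := by simp [hd]
  -- the estimate
  set E := (bset M G).erase (principalIrr G)
  have hsum3 : ∑ χ ∈ bset M G, z χ ^ 3 / d χ = 1 + ∑ χ ∈ E, z χ ^ 3 / d χ := by
    rw [← Finset.add_sum_erase _ _ hprin, hzp, hdp]; norm_num; rfl
  have hsum2 : bnorm M b = 1 + ∑ χ ∈ E, z χ ^ 2 := by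
    rw [hS, ← Finset.add_sum_erase _ _ hprin, hzp]; norm_num; rfl
  have hgap : ∀ χ ∈ E, 0 ≤ z χ ^ 2 - 4 * (z χ ^ 3 / d χ) := by
    intro χ hχ
    rw [show z χ ^ 2 - 4 * (z χ ^ 3 / d χ) = z χ ^ 2 * (1 - 4 * (z χ / d χ)) by ring]
    exact mul_nonneg (sq_nonneg _) (by linarith [(hnon χ hχ).1])
  have hge : (Nat.card H : ℝ) ≤ bnorm M b :=
    card_le_bnorm hM (exists_pow_of_mem hH hbH) hH fun v hv =>
      Subgroup.mem_centralizer_singleton_iff.2 (commute_of_mem hab hv hbH).eq
  have hcast : (Nat.card H : ℝ) = k + 1 := by rw [← hcardH]; push_cast; rfl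
  have hk2' : (2 : ℝ) ≤ k := by exact_mod_cast hk2
  have hsumgap := Finset.sum_nonneg hgap
  have hle0 : ∑ χ ∈ E, (z χ ^ 2 - 4 * (z χ ^ 3 / d χ)) ≤ 0 := by
    rw [Finset.sum_sub_distrib, ← Finset.mul_sum] at hsumgap ⊢
    nlinarith
  have hzero := (Finset.sum_eq_zero_iff_of_nonneg hgap).1 (le_antisymm hle0 hsumgap)
  have hnn : ∀ χ ∈ E, 0 ≤ d χ * z χ := by
    intro χ hχ
    have h := hzero χ hχ
    have hdp := hd0 χ
    rw [show z χ ^ 2 - 4 * (z χ ^ 3 / d χ) = z χ ^ 2 * (d χ - 4 * z χ) / d χ by field_simp,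
      div_eq_zero_iff, mul_eq_zero, pow_eq_zero_iff two_ne_zero] at h
    rcases h with (h | h) | h
    · rw [h, mul_zero]
    · exact mul_nonneg hdp.le (by linarith)
    · exact absurd h hdp.ne'
  rw [← Finset.add_sum_erase _ _ hprin, hzp, hdp] at horth
  linarith [Finset.sum_nonneg hnn]

/-- The principal block theorem. -/
theorem eq_top_of_core
    (hsingle : ∀ s ∈ H, s ≠ 1 → (∀ g : G, g * s * g⁻¹ ∈ H → g * s * g⁻¹ = s) → H = ⊤)
    (htop : Subgroup.normalClosure (H : Set G) = ⊤)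
    (hH1 : H ≠ ⊥) : H = ⊤ := by
  classical
  by_cases hsing : ∃ s ∈ H, s ≠ 1 ∧ ∀ g : G, g * s * g⁻¹ ∈ H → g * s * g⁻¹ = s
  · obtain ⟨s, hs, hs1, hu⟩ := hsing
    exact hsingle s hs hs1 hu
  exfalso
  push Not at hsing
  obtain ⟨g₁, g₂, htri⟩ : ∃ g₁ g₂ : G, pair H g₁ ⊔ pair H g₂ = ⊤ := by
    by_contra hno
    push Not at hno
    obtain ⟨b, hb, hb1⟩ := H.bot_or_exists_ne_one.resolve_left hH1
    obtain ⟨g, hg, hne⟩ := hsing b hb hb1
    exact hne (conj_eq_of_no_triangle hH hab hsp hloc htop hno hb hg)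
  have hmin : ∀ x ∈ nonid H, 2 ≤ (hcls H x).card := by
    intro x hx
    obtain ⟨hxH, hx1⟩ := mem_nonid.1 hx
    obtain ⟨g, hg, hne⟩ := hsing x hxH hx1
    rw [← Finset.card_pair hne]
    refine Finset.card_le_card (Finset.insert_subset ?_ (Finset.singleton_subset_iff.2 ?_))
    · exact mem_hcls.2 ⟨mem_nonid.2 ⟨hg, fun e => hx1 (conj_eq_one_iff.1 e)⟩,
        isConj_iff.2 ⟨g, rfl⟩⟩
    · exact mem_hcls.2 ⟨hx, IsConj.refl x⟩
  -- one class in every coset of the common kernel
  have hone : ∀ x ∈ nonid H, ∀ y ∈ nonid H,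
      (∀ χ ∈ linset M G, (χ : G → ℂ) x = (χ : G → ℂ) y) → IsConj x y := fun x hx y hy h => by
    by_contra hne
    exact false_of_two_classes hH hab hsp hM hloc hZ htop htri hmin hx hy hne h
  -- a nonidentity element in the common kernel
  obtain ⟨b, hb, hbker⟩ : ∃ b ∈ nonid H, b ∈ linker M H := by
    obtain ⟨x, hx, hx1⟩ := H.bot_or_exists_ne_one.resolve_left hH1
    obtain ⟨g, hg, hne⟩ := hsing x hx hx1
    refine ⟨g * x * g⁻¹ * x⁻¹, mem_nonid.2 ⟨H.mul_mem hg (H.inv_mem hx), fun e => hne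
      (mul_inv_eq_one.1 e)⟩, H.mul_mem hg (H.inv_mem hx), fun χ hχ => ?_⟩
    rw [linear_mul (mem_linset.1 hχ).2, irr_isClassFunction χ x g,
      ← linear_mul (mem_linset.1 hχ).2, mul_inv_cancel]
    exact (mem_linset.1 hχ).2
  by_cases hall : ∀ a ∈ H, a ∈ linker M H
  · have hL : (linset M G).card = 1 := by
      have hprin : principalIrr G ∈ linset M G :=
        mem_linset.2 ⟨mem_bset.2 (principalIrr_mem hM), principalIrr_apply 1⟩
      have h1 := card_linset_mul_le (M := M) htop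
      have h2 : linker M H = H := le_antisymm linker_le hall
      rw [h2] at h1
      refine le_antisymm ?_ (Finset.card_pos.2 ⟨_, hprin⟩)
      exact Nat.le_of_mul_le_mul_right (by rwa [one_mul]) Nat.card_pos
    exact false_of_one_class hH hab hsp hM hloc hZ
      ((hmin b hb).trans (Finset.card_le_card fun x hx => (mem_hcls.1 hx).1)) htri hb
      (fun x hx => hone b hb x hx fun χ hχ => by
        rw [(hall b (mem_nonid.1 hb).1).2 χ hχ, (hall x (mem_nonid.1 hx).1).2 χ hχ]) hL
  push Not at hall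
  obtain ⟨a, ha, hak⟩ := hall
  obtain ⟨hbH, hb1⟩ := mem_nonid.1 hb
  have ha1 : a ≠ 1 := fun e => hak (e ▸ one_mem _)
  -- nonlinear characters vanish at `a`
  have hS : bnorm M a = ((linset M G).card : ℝ) := bnorm_eq_card_linset fun χ hχ hnl' => by
    have hnl : (χ : G → ℂ) 1 ≠ 1 := fun h1 => hnl' (mem_linset.2 ⟨hχ, h1⟩)
    have hterm : ∀ y ∈ cls b, (χ : G → ℂ) (a * y) = (χ : G → ℂ) a := by
      intro y hy
      obtain ⟨e, rfl⟩ := isConj_iff.1 (mem_cls.1 hy)
      have hye : e * b * e⁻¹ ∈ pair H e := conj_mem_pair e hbH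
      obtain ⟨hs1, hs2⟩ := mem_hcls.1 (proj_mem_hcls hH hab hsp hbH hb1 hy)
      set s := proj H p (e * b * e⁻¹)
      have hsk : ∀ ψ ∈ linset M G, (ψ : G → ℂ) s = 1 := fun ψ hψ => by
        rw [← classFunction_eq_of_isConj (irr_isClassFunction ψ) hs2]
        exact hbker.2 ψ hψ
      have has : a * s ≠ 1 := fun e => hak ⟨ha, fun ψ hψ => by
        have := linear_mul (mem_linset.1 hψ).2 a s
        rw [e, hsk ψ hψ, mul_one, (mem_linset.1 hψ).2] at this
        exact this.symm⟩
      have h := value_coset hH hab hsp hM hloc hZ (mem_bset.1 hχ)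
        (H.mul_mem ha (mem_nonid.1 hs1).1) has (proj_decomp hH hab hsp hye)
      rw [mul_assoc, mul_inv_cancel_left] at h
      rw [h]
      refine (classFunction_eq_of_isConj (irr_isClassFunction χ) (hone a (mem_nonid.2 ⟨ha, ha1⟩)
        (a * s) (mem_nonid.2 ⟨H.mul_mem ha (mem_nonid.1 hs1).1, has⟩) fun ψ hψ => ?_)).symm
      rw [linear_mul (mem_linset.1 hψ).2, hsk ψ hψ, mul_one]
    have h := sum_cls_value χ a b
    rw [Finset.sum_congr rfl hterm, Finset.sum_const, nsmul_eq_mul, mul_assoc] at h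
    have h' := mul_left_cancel₀ (Nat.cast_ne_zero.2 (card_cls_pos b).ne') h
    by_contra h0
    have hφ : (χ : G → ℂ) b / (χ : G → ℂ) 1 = 1 := (mul_eq_right₀ h0).1 h'.symm
    rw [div_eq_one_iff_eq (irr_one_ne_zero χ)] at hφ
    have hb8 := eight_card_mul_sq_le hH hab hsp hM hloc hZ htri hχ hnl b
    rw [hφ] at hb8
    have hm : (2 : ℝ) ≤ (hcls H b).card := by exact_mod_cast hmin b hb
    have hd : 0 < ‖(χ : G → ℂ) 1‖ ^ 2 := by
      have := norm_pos_iff.2 (irr_one_ne_zero χ)
      positivity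
    nlinarith
  have h1 := card_le_bnorm hM (exists_pow_of_mem hH ha) hH fun v hv =>
    Subgroup.mem_centralizer_singleton_iff.2 (commute_of_mem hab hv ha).eq
  rw [hS] at h1
  have h1' : Nat.card H ≤ (linset M G).card := by exact_mod_cast h1
  have h2 := card_linset_mul_le (M := M) htop
  have h3 : 2 ≤ Nat.card (linker M H) := by
    by_contra hlt
    have hpos : 0 < Nat.card (linker M H) := Nat.card_pos
    have : linker M H = ⊥ := Subgroup.eq_bot_of_card_eq _ (by omega)
    rw [this, Subgroup.mem_bot] at hbker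
    exact hb1 hbker
  have hpos : 0 < Nat.card H := Nat.card_pos
  nlinarith

end

end CfsgLib.ExtClosed
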