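import Cfsg.Agent.Lib.ExtClosed.Fusion
import Cfsg.Agent.Lib.ExtClosed.Fix
import Cfsg.Agent.Lib.PLocal.Constraint

/-!
An extremely closed abelian `p`-subgroup `H`, `p` odd: the normal closure of `H` meets `N(H)` in
`H`, and `G = N(H) O_{p'}(G)`.
-/

set_option autoImplicit false
set_option linter.style.haveILetI false

namespace CfsgLib.ExtClosed

universe u

variable {G : Type u} [Group G] {H : Subgroup G} {p : ℕ}

theorem map_extremelyClosed {L : Type u} [Group L] (f : G →* L) (hf : Function.Surjective f)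
    (hker : ∀ g k, k ∈ pair H g → f k ∈ Subgroup.normalizer ((H.map f : Subgroup L) : Set L) →
      f k ∈ H.map f) :
    Cfsg.IsExtremelyClosed (H.map f) := by
  intro l
  obtain ⟨g, rfl⟩ := hf l
  refine le_antisymm ?_ (le_inf le_sup_left Subgroup.le_normalizer)
  rintro x ⟨hx, hxN⟩
  change x ∈ pair (H.map f) (f g) at hx
  rw [← map_pair] at hx
  obtain ⟨k, hk, rfl⟩ := hx
  exact hker g k hk hxN

theorem subgroupOf_extremelyClosed (hcl : Cfsg.IsExtremelyClosed H) {L : Subgroup G}
    (hHL : H ≤ L) : Cfsg.IsExtremelyClosed (H.subgroupOf L) := by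
  intro l
  refine le_antisymm ?_ (le_inf le_sup_left Subgroup.le_normalizer)
  rintro x ⟨hx, hxN⟩
  have hmap : (H.subgroupOf L).map L.subtype = H := Subgroup.map_subgroupOf_eq_of_le hHL
  have h1 : (x : G) ∈ pair H (l : G) := by
    have : (pair (H.subgroupOf L) l).map L.subtype = pair H (l : G) := by
      rw [map_pair, hmap]; rfl
    rw [← this]
    exact ⟨x, hx, rfl⟩
  have h2 : (x : G) ∈ Subgroup.normalizer (H : Set G) := by
    have := Subgroup.le_normalizer_map L.subtype ⟨x, hxN, rfl⟩
    rwa [hmap] at this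
  exact (hcl (l : G)).le ⟨h1, h2⟩

/-- An element of `L` normalises `H` as a subgroup of `L` exactly when it normalises `H`. -/
theorem mem_normalizer_subgroupOf {L : Subgroup G} (hHL : H ≤ L) (x : L) :
    x ∈ Subgroup.normalizer ((H.subgroupOf L : Subgroup L) : Set L) ↔
      (x : G) ∈ Subgroup.normalizer (H : Set G) := by
  rw [Subgroup.mem_normalizer_iff, Subgroup.mem_normalizer_iff]
  refine ⟨fun h y => ⟨fun hy => (h ⟨y, hHL hy⟩).1 hy, fun hy => ?_⟩, fun h y => h y⟩
  have hyL : y ∈ L := by
    have := L.mul_mem (L.mul_mem (L.inv_mem x.2) (hHL hy)) x.2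
    simpa [mul_assoc] using this
  exact (h ⟨y, hyL⟩).2 hy

variable [Finite G] [Fact p.Prime]

/-- An element of `K` normalising `H` modulo a `p'`-subgroup `O` lies in `H ⊔ O`. -/
theorem mem_sup_of_conj (hH : IsPGroup p H) {K O : Subgroup G} (hHK : H ≤ K)
    (hsn : K ⊓ Subgroup.normalizer (H : Set G) ≤ H) (hO : (Nat.card O).Coprime p)
    (hKO : K ≤ Subgroup.normalizer (O : Set G)) {k : G} (hk : k ∈ K)
    (hconj : ∀ y ∈ H, ∃ y' ∈ H, y'⁻¹ * (k * y * k⁻¹) ∈ O) : k ∈ H ⊔ O := by
  haveI : (O.subgroupOf K).Normal := Subgroup.normal_subgroupOf_of_le_normalizer hKO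
  have hO' : (Nat.card ↥(O.subgroupOf K)).Coprime p := by
    refine Nat.Coprime.coprime_dvd_left ?_ hO
    rw [← Subgroup.card_subtype K, Subgroup.subgroupOf_map_subtype]
    exact Subgroup.card_dvd_of_le inf_le_left
  obtain ⟨n, hn, hnk⟩ := CfsgLib.PLocal.exists_mul_mem_normalizer hO'
    (hH.comap_subtype (K := K)) (x := (⟨k, hk⟩ : K)) (fun y hy => by
      obtain ⟨y', hy', hd⟩ := hconj (y : G) (Subgroup.mem_subgroupOf.1 hy)
      exact ⟨⟨y', hHK hy'⟩, hy', (QuotientGroup.eq).2 hd⟩)
  have h1 : (n : G) * k ∈ H :=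
    hsn ⟨mul_mem n.2 hk, (mem_normalizer_subgroupOf hHK _).1 hnk⟩
  rw [show k = (n : G)⁻¹ * ((n : G) * k) by group]
  exact mul_mem (Subgroup.mem_sup_right (inv_mem hn)) (Subgroup.mem_sup_left h1)

/-- An extremely closed `H`: a `p'`-element of a pair subgroup lying in `M` lies in `O` when `M`
normalises `H ⊔ O`. -/
theorem mem_of_normalizer_sup (hH : IsPGroup p H) (hab : IsMulCommutative H)
    (hcl : Cfsg.IsExtremelyClosed H) {M O : Subgroup G} (hHM : H ≤ M)
    (hMO : M ≤ Subgroup.normalizer (O : Set G)) (hOp : ¬ p ∣ Nat.card O)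
    (hMHO : M ≤ Subgroup.normalizer ((H ⊔ O : Subgroup G) : Set G)) {g r : G}
    (hr : r ∈ pair H g) (ho : ¬ p ∣ orderOf r) (hrM : r ∈ M) : r ∈ O := by
  haveI := Fintype.ofFinite G
  have hsp := split_of_closed hH hab hcl
  set R := compl hH hab hsp g
  set C1 := R ⊓ M with hC1
  have hrR : r ∈ R := mem_compl_of_regular hH hab hsp hr ho
  have hHR : H ≤ Subgroup.normalizer (R : Set G) := le_normalizer_compl hH hab hsp g
  have hHC1 : H ≤ Subgroup.normalizer (C1 : Set G) := fun v hv =>
    CfsgLib.Coprime.mem_normalizer_of_forall_conj fun y hy =>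
      ⟨(Subgroup.mem_normalizer_iff.1 (hHR hv) y).1 hy.1,
        M.mul_mem (M.mul_mem (hHM hv) hy.2) (M.inv_mem (hHM hv))⟩
  have hHO : H ≤ Subgroup.normalizer (O : Set G) := hHM.trans hMO
  have hfix : ∀ a ∈ H, r⁻¹ * (a * r * a⁻¹) ∈ C1 ⊓ O := by
    intro a ha
    have h1 : a * r * a⁻¹ ∈ C1 := (Subgroup.mem_normalizer_iff.1 (hHC1 ha) r).1 ⟨hrR, hrM⟩
    have h2 : r⁻¹ * (a * r * a⁻¹) ∈ C1 := C1.mul_mem (C1.inv_mem ⟨hrR, hrM⟩) h1
    refine ⟨h2, mem_of_mem_sup hH hab hsp hOp hHO h2.1 ?_⟩
    rw [show r⁻¹ * (a * r * a⁻¹) = (r⁻¹ * a * r) * a⁻¹ by group]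
    exact mul_mem ((Subgroup.mem_normalizer_iff''.1 (hMHO hrM) a).1 (Subgroup.mem_sup_left ha))
      (Subgroup.mem_sup_left (H.inv_mem ha))
  obtain ⟨c', hc', hcN⟩ := CfsgLib.Coprime.exists_centralizing_rep H C1 hHC1
    ((coprime_of_not_dvd hH (compl_not_dvd hH hab hsp g)).coprime_dvd_right
      (Subgroup.card_dvd_of_le inf_le_left))
    (Or.inl (Group.isSolvable_of_comm fun a b => hab.is_comm.comm a b))
    (C1 ⊓ O) inf_le_left
    (fun v hv => CfsgLib.Coprime.mem_normalizer_of_forall_conj fun y hy =>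
      ⟨(Subgroup.mem_normalizer_iff.1 (hHC1 hv) y).1 hy.1,
        (Subgroup.mem_normalizer_iff.1 (hHO hv) y).1 hy.2⟩)
    (k := r) ⟨hrR, hrM⟩ hfix
  have hc'1 : c' = 1 := compl_fixed hH hab hsp hcl g hc'.1.1 fun v hv =>
    Subgroup.mem_centralizer_iff.1 hc'.2 v hv
  rw [hc'1, mul_one] at hcN
  exact inv_mem_iff.1 hcN.2

/-- The quotient step by a normal subgroup of `G` inside `H` centralised by the normal closure
of `H`. -/
theorem normalizer_eq_top_of_quotient (hH : IsPGroup p H) (hO : Cfsg.pPrimeCore p G = ⊥)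
    (Z : Subgroup G) [Z.Normal] (hZH : Z ≤ H)
    (hcent : Subgroup.normalClosure (H : Set G) ≤ Subgroup.centralizer (Z : Set G))
    (hq : Subgroup.normalizer ((H.map (QuotientGroup.mk' Z) : Subgroup (G ⧸ Z)) : Set (G ⧸ Z)) ⊔
      Cfsg.pPrimeCore p (G ⧸ Z) = ⊤) :
    Subgroup.normalizer (H : Set G) = ⊤ := by
  set f := QuotientGroup.mk' Z with hf
  have hfs := QuotientGroup.mk'_surjective Z
  have hpre : (H.map f).comap f = H := by
    rw [QuotientGroup.comap_map_mk', sup_eq_right.2 hZH]
  haveI := Cfsg.pPrimeCore_normal p (G ⧸ Z)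
  set L := (Cfsg.pPrimeCore p (G ⧸ Z)).comap f with hL
  have hNL : Subgroup.normalizer (H : Set G) ⊔ L = ⊤ := by
    have h1 := congrArg (Subgroup.comap f) hq
    rw [← Subgroup.comap_sup_eq f _ _ hfs, Subgroup.comap_top] at h1
    rw [← h1, Subgroup.comap_normalizer_eq_of_surjective _ hfs, hpre]
  haveI : L.Normal := inferInstanceAs ((Cfsg.pPrimeCore p (G ⧸ Z)).comap f).Normal
  haveI : (Subgroup.centralizer (Z : Set G)).Normal := Subgroup.normal_centralizer
  set D := L ⊓ Subgroup.centralizer (Z : Set G) with hD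
  haveI : D.Normal := inferInstance
  have hZL : Z ≤ L := fun z hz => by
    rw [hL, Subgroup.mem_comap, show f z = 1 from (QuotientGroup.eq_one_iff z).2 hz]
    exact one_mem _
  have hZc : Z ≤ Subgroup.centralizer (Z : Set G) :=
    hZH.trans (le_trans Subgroup.subset_normalClosure hcent)
  have hZD : Z ≤ D := le_inf hZL hZc
  have hDZ : D ≤ Z := by
    set Z' := Z.subgroupOf D with hZ'
    have hidx : (Z.relIndex D).Coprime p := by
      have h1 : Z.relIndex D ∣ Z.relIndex L :=
        Dvd.intro _ (Subgroup.relIndex_mul_relIndex Z D L hZD inf_le_left)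
      refine Nat.Coprime.coprime_dvd_left h1 ?_
      have h2 : Z.relIndex L = Nat.card (Cfsg.pPrimeCore p (G ⧸ Z)) := by
        have e1 := Subgroup.card_mul_index (Z.subgroupOf L)
        have e2 := CfsgLib.PCore.card_comap_mk' Z (Cfsg.pPrimeCore p (G ⧸ Z))
        rw [Nat.card_congr (Subgroup.subgroupOfEquivOfLe hZL).toEquiv] at e1
        rw [← hf, ← hL, ← e1] at e2
        exact mul_left_cancel₀ Nat.card_pos.ne' e2
      rw [h2]
      exact CfsgLib.PCore.pPrimeCore_coprime
    have hcard : (Nat.card Z').Coprime Z'.index := by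
      obtain ⟨k, hk⟩ := (hH.to_le hZH).exists_card_eq
      rw [Nat.card_congr (Subgroup.subgroupOfEquivOfLe hZD).toEquiv, hk]
      exact hidx.symm.pow_left k
    obtain ⟨C, hC⟩ := Subgroup.exists_right_complement'_of_coprime hcard
    have hcomm : ∀ z : D, z ∈ Z' → ∀ d : D, z * d = d * z := fun z hz d =>
      Subtype.ext (Subgroup.mem_centralizer_iff.1 d.2.2 _ hz)
    have hCn : C.Normal := ⟨fun c hc d => by
      obtain ⟨⟨⟨z, hz⟩, ⟨c', hc'⟩⟩, e, -⟩ := hC.existsUnique d
      simp only at e
      rw [← e]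
      have : z * c' * c * (z * c')⁻¹ = c' * c * c'⁻¹ := by
        calc z * c' * c * (z * c')⁻¹ = z * (c' * c * c'⁻¹) * z⁻¹ := by group
          _ = c' * c * c'⁻¹ := by rw [hcomm z hz, mul_inv_cancel_right]
      rw [this]
      exact mul_mem (mul_mem hc' hc) (inv_mem hc')⟩
    have hCcard : (Nat.card C).Coprime p := by
      rw [← hC.symm.index_eq_card]; exact hidx
    have hC1 : C = ⊥ := le_bot_iff.1
      ((CfsgLib.PCore.le_pPrimeCore hCn hCcard).trans
        (CfsgLib.PCore.pPrimeCore_eq_bot_of_normal D hO).le)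
    intro d hd
    obtain ⟨⟨⟨z, hz⟩, ⟨c', hc'⟩⟩, e, -⟩ := hC.existsUnique (⟨d, hd⟩ : D)
    rw [hC1, SetLike.mem_coe, Subgroup.mem_bot] at hc'
    simp only [hc', mul_one] at e
    rw [show d = (z : G) from (congrArg Subtype.val e).symm]
    exact hz
  have hLN : L ≤ Subgroup.normalizer (H : Set G) := by
    intro l hl
    refine Subgroup.mem_normalizer_fintype fun h hh => ?_
    have hhM : h ∈ Subgroup.normalClosure (H : Set G) := Subgroup.subset_normalClosure hh
    have h1 : l * h * l⁻¹ * h⁻¹ ∈ D := by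
      refine ⟨?_, hcent (mul_mem (Subgroup.normalClosure_normal.conj_mem h hhM l) (inv_mem hhM))⟩
      rw [show l * h * l⁻¹ * h⁻¹ = l * (h * l⁻¹ * h⁻¹) by group]
      exact mul_mem hl ((inferInstance : L.Normal).conj_mem _ (inv_mem hl) h)
    have := H.mul_mem (hZH (hDZ h1)) hh
    rwa [inv_mul_cancel_right] at this
  exact top_le_iff.1 (hNL ▸ sup_le le_rfl hLN)

/-- The normal closure in `G`, seen inside itself. -/
theorem normalClosure_subgroupOf_eq_top (hH : IsPGroup p H) (hab : IsMulCommutative H)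
    (hcl : Cfsg.IsExtremelyClosed H) :
    Subgroup.normalClosure ((H.subgroupOf (Subgroup.normalClosure (H : Set G)) :
      Subgroup ↥(Subgroup.normalClosure (H : Set G))) :
        Set ↥(Subgroup.normalClosure (H : Set G))) = ⊤ := by
  set L := Subgroup.normalClosure (H : Set G) with hL
  set X := Subgroup.normalClosure ((H.subgroupOf L : Subgroup L) : Set L) with hX
  have hpair : ∀ g, pair H g ≤ L := fun g =>
    sup_le Subgroup.le_normalClosure (by
      rintro _ ⟨x, hx, rfl⟩
      exact Subgroup.normalClosure_normal.conj_mem x (Subgroup.subset_normalClosure hx) g)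
  have hle : L ≤ X.map L.subtype := by
    conv_lhs => rw [hL, Subgroup.normalClosure]
    rw [Subgroup.closure_le]
    intro z hz
    obtain ⟨x, hx, hxz⟩ := Group.mem_conjugatesOfSet_iff.1 hz
    obtain ⟨g, rfl⟩ := isConj_iff.1 hxz
    obtain ⟨o, ho, hn⟩ := exists_factor hH hab (split_of_closed hH hab hcl) g
    have hx' : o⁻¹ * g * x * (o⁻¹ * g)⁻¹ ∈ H := (Subgroup.mem_normalizer_iff.1 hn x).1 hx
    have hoL : o ∈ L := hpair g (compl_le hH hab (split_of_closed hH hab hcl) g ho)
    refine ⟨⟨o, hoL⟩ * ⟨_, Subgroup.subset_normalClosure hx'⟩ * ⟨o, hoL⟩⁻¹,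
      Subgroup.normalClosure_normal.conj_mem _ (Subgroup.subset_normalClosure ?_) _, ?_⟩
    · exact hx'
    · show o * (o⁻¹ * g * x * (o⁻¹ * g)⁻¹) * o⁻¹ = g * x * g⁻¹
      group
  rw [eq_top_iff]
  rintro ⟨x, hx⟩ -
  obtain ⟨y, hy, e⟩ := hle hx
  rwa [show (⟨x, hx⟩ : L) = y from Subtype.ext e.symm]

/-- Both conclusions for one subgroup. -/
def Concl (p : ℕ) {G : Type u} [Group G] (H : Subgroup G) : Prop :=
  Subgroup.normalClosure (H : Set G) ⊓ Subgroup.normalizer (H : Set G) = H ∧
    Subgroup.normalizer (H : Set G) ⊔ Cfsg.pPrimeCore p G = ⊤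

/-- An extremely closed abelian `p`-subgroup for odd `p`. -/
theorem concl (hp : p ≠ 2) : ∀ (G : Type u) [Group G] [Finite G] (H : Subgroup G),
    IsPGroup p H → IsMulCommutative H → Cfsg.IsExtremelyClosed H → Concl p H := by
  suffices h : ∀ (n : ℕ) (G : Type u) [Group G] [Finite G], Nat.card G = n → ∀ H : Subgroup G,
      IsPGroup p H → IsMulCommutative H → Cfsg.IsExtremelyClosed H → Concl p H from
    fun G _ _ H h1 h2 h3 => h _ G rfl H h1 h2 h3
  intro n
  induction n using Nat.strong_induction_on with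
  | _ n ih =>
    intro G _ _ hn H hH hab hcl
    haveI : Fintype G := Fintype.ofFinite G
    haveI hab' : IsMulCommutative H := hab
    set N := Subgroup.normalizer (H : Set G) with hN
    haveI hOn : (Cfsg.pPrimeCore p G).Normal := Cfsg.pPrimeCore_normal p G
    have hOp : ¬ p ∣ Nat.card (Cfsg.pPrimeCore p G) := CfsgLib.PCore.not_dvd_card_pPrimeCore
    have hHN : H ≤ N := Subgroup.le_normalizer
    -- the induction hypothesis in proper subgroups over `H`
    have ihsub : ∀ M : Subgroup G, H ≤ M → M ≠ ⊤ → Concl p (H.subgroupOf M) := by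
      intro M hHM hM
      refine ih _ (hn ▸ lt_of_le_of_ne (Subgroup.card_le_card_group _) (fun e =>
        hM (Subgroup.eq_top_of_card_eq _ e))) ↥M rfl _ hH.comap_subtype
        (Subgroup.subgroupOf_isMulCommutative _ H) (subgroupOf_extremelyClosed hcl hHM)
    by_cases htop : Subgroup.normalClosure (H : Set G) = ⊤
    swap
    · -- reduce to the normal closure
      set L := Subgroup.normalClosure (H : Set G) with hL
      have hHL : H ≤ L := Subgroup.le_normalClosure
      obtain ⟨h1, h2⟩ := ihsub L hHL htop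
      rw [normalClosure_subgroupOf_eq_top hH hab hcl, top_inf_eq] at h1
      rw [h1] at h2
      have hfirst : L ⊓ N = H := le_antisymm (fun x hx => by
        have := (mem_normalizer_subgroupOf hHL ⟨x, hx.1⟩).2 hx.2
        rw [h1] at this
        exact this) (le_inf hHL hHN)
      refine ⟨hfirst, ?_⟩
      have hLle : L ≤ H ⊔ Cfsg.pPrimeCore p G := by
        have h3 := congrArg (Subgroup.map L.subtype) h2
        rw [Subgroup.map_sup, Subgroup.map_subgroupOf_eq_of_le hHL,
          CfsgLib.PCore.map_pPrimeCore_subtype_of_normal, ← MonoidHom.range_eq_map,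
          Subgroup.range_subtype] at h3
        exact h3.ge.trans (sup_le_sup_left inf_le_right _)
      refine eq_top_iff.2 fun g _ => ?_
      obtain ⟨o, ho, hn'⟩ := exists_factor hH hab (split_of_closed hH hab hcl) g
      have hpair : pair H g ≤ L := sup_le hHL (by
        rintro _ ⟨x, hx, rfl⟩
        exact Subgroup.normalClosure_normal.conj_mem x (Subgroup.subset_normalClosure hx) g)
      rw [show g = o * (o⁻¹ * g) by group]
      exact mul_mem ((hLle.trans (sup_le_sup_right hHN _))
        (hpair (compl_le hH hab (split_of_closed hH hab hcl) g ho))) (Subgroup.mem_sup_left hn')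
    -- `G` is generated by the conjugates of `H`
    have hquot : ∀ (Z : Subgroup G) [Z.Normal], Z ≠ ⊥ →
        Cfsg.IsExtremelyClosed (H.map (QuotientGroup.mk' Z)) →
        Subgroup.normalizer ((H.map (QuotientGroup.mk' Z) : Subgroup (G ⧸ Z)) : Set (G ⧸ Z)) =
            H.map (QuotientGroup.mk' Z) ∧
          H.map (QuotientGroup.mk' Z) ⊔ Cfsg.pPrimeCore p (G ⧸ Z) = ⊤ := by
      intro Z _ hZ1 hcl'
      have hlt : Nat.card (G ⧸ Z) < n := by
        rw [← hn, Subgroup.card_eq_card_quotient_mul_card_subgroup Z]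
        exact lt_mul_of_one_lt_right Nat.card_pos (by
          rwa [Finite.one_lt_card_iff_nontrivial, Subgroup.nontrivial_iff_ne_bot])
      obtain ⟨h1, h2⟩ := ih _ hlt (G ⧸ Z) rfl _ (hH.map _)
        (Subgroup.map_isMulCommutative H _) hcl'
      have hnc : Subgroup.normalClosure
          ((H.map (QuotientGroup.mk' Z) : Subgroup (G ⧸ Z)) : Set (G ⧸ Z)) = ⊤ := by
        rw [Subgroup.coe_map, ← Subgroup.map_normalClosure _ _ (QuotientGroup.mk'_surjective Z),
          htop, Subgroup.map_top_of_surjective _ (QuotientGroup.mk'_surjective Z)]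
      rw [hnc, top_inf_eq] at h1
      rw [h1] at h2
      exact ⟨h1, h2⟩
    -- a central element of `H` gives self-normalization
    have hcentral : ∀ a ∈ H, a ≠ 1 → Subgroup.centralizer ({a} : Set G) = ⊤ →
        ∃ Z : Subgroup G, ∃ _ : Z.Normal, Z ≤ H ∧ Z ≠ ⊥ ∧
          Subgroup.normalClosure (H : Set G) ≤ Subgroup.centralizer (Z : Set G) ∧
          Cfsg.IsExtremelyClosed (H.map (QuotientGroup.mk' Z)) := by
      intro a ha ha1 hac
      have hzc : Subgroup.zpowers a ≤ Subgroup.center G :=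
        Subgroup.zpowers_le.2 (Subgroup.mem_center_iff.2 fun g =>
          Subgroup.mem_centralizer_singleton_iff.1 (by rw [hac]; trivial))
      haveI hZn : (Subgroup.zpowers a).Normal := ⟨fun z hz g => by
        rw [Subgroup.mem_center_iff.1 (hzc hz) g, mul_inv_cancel_right]; exact hz⟩
      have hle : Subgroup.zpowers a ≤ H := Subgroup.zpowers_le.2 ha
      refine ⟨_, hZn, hle, by simpa using ha1, fun m _ => Subgroup.mem_centralizer_iff.2
        fun z hz => (Subgroup.mem_center_iff.1 (hzc hz) m).symm, ?_⟩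
      refine map_extremelyClosed _ (QuotientGroup.mk'_surjective _) fun g k hk hkN => ?_
      refine Subgroup.mem_map_of_mem _ ((hcl g).le ⟨hk, ?_⟩)
      have h := Subgroup.comap_normalizer_eq_of_surjective
        (H.map (QuotientGroup.mk' (Subgroup.zpowers a))) (QuotientGroup.mk'_surjective _)
      rw [QuotientGroup.comap_map_mk', sup_eq_right.2 hle] at h
      rw [← h]
      exact hkN
    -- `G = H O`
    have hsplit : H ⊔ Cfsg.pPrimeCore p G = ⊤ := by
      by_cases hO : Cfsg.pPrimeCore p G = ⊥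
      swap
      · set O := Cfsg.pPrimeCore p G with hOdef
        have hOcop : (Nat.card O).Coprime p := CfsgLib.PCore.pPrimeCore_coprime
        have hcl' : Cfsg.IsExtremelyClosed (H.map (QuotientGroup.mk' O)) := by
          refine map_extremelyClosed _ (QuotientGroup.mk'_surjective O) fun g k hk hkN => ?_
          have hmem : k ∈ H ⊔ O := by
            refine mem_sup_of_conj hH (le_pair g) (hcl g).le hOcop
              ((Subgroup.normalizer_eq_top O).symm ▸ le_top) hk fun y hy => ?_
            obtain ⟨y', hy', e⟩ := (Subgroup.mem_normalizer_iff.1 hkN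
              (QuotientGroup.mk' O y)).1 ⟨y, hy, rfl⟩
            exact ⟨y', hy', (QuotientGroup.eq).1 (by simpa using e)⟩
          have := Subgroup.mem_map_of_mem (QuotientGroup.mk' O) hmem
          rwa [Subgroup.map_sup, QuotientGroup.map_mk'_self, sup_bot_eq] at this
        obtain ⟨-, h2⟩ := hquot O hO hcl'
        rw [show Cfsg.pPrimeCore p (G ⧸ O) = ⊥ from
          CfsgLib.PCore.pPrimeCore_quotient_pPrimeCore, sup_bot_eq] at h2
        have h3 := congrArg (Subgroup.comap (QuotientGroup.mk' O)) h2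
        rw [QuotientGroup.comap_map_mk', Subgroup.comap_top, sup_comm] at h3
        exact h3
      rw [hO, sup_bot_eq]
      rcases eq_or_ne H ⊥ with hH1 | hH1
      · rw [hH1] at htop ⊢
        exact le_antisymm le_top (htop ▸ Subgroup.normalClosure_le_normal le_rfl)
      by_cases hcen : ∃ a ∈ H, a ≠ 1 ∧ Subgroup.centralizer ({a} : Set G) = ⊤
      · obtain ⟨a, ha, ha1, hac⟩ := hcen
        obtain ⟨Z, hZn, hZH, hZ1, hcent, hclZ⟩ := hcentral a ha ha1 hac
        haveI := hZn
        obtain ⟨h1, h2⟩ := hquot Z hZ1 hclZ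
        rw [← h1] at h2
        have hNtop := normalizer_eq_top_of_quotient hH hO Z hZH hcent h2
        haveI : H.Normal := Subgroup.normalizer_eq_top_iff.1 hNtop
        exact le_antisymm le_top (htop ▸ Subgroup.normalClosure_le_normal le_rfl)
      push Not at hcen
      obtain ⟨M, hM⟩ := CfsgLib.Blocks.exists_isPModular (p := p)
      have hloc : LocalHyp H p := by
        intro M hHM hMtop
        obtain ⟨-, h2⟩ := ihsub M hHM hMtop
        haveI := Cfsg.pPrimeCore_normal p ↥M
        refine ⟨(Cfsg.pPrimeCore p ↥M).map M.subtype, Subgroup.map_subtype_le _, ?_, ?_, ?_⟩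
        · refine (Subgroup.normal_subgroupOf_iff_le_normalizer (Subgroup.map_subtype_le _)).1 ?_
          rw [Subgroup.subgroupOf, Subgroup.comap_map_eq_self_of_injective M.subtype_injective]
          exact Cfsg.pPrimeCore_normal p _
        · rw [Subgroup.card_subtype]
          exact CfsgLib.PCore.not_dvd_card_pPrimeCore
        · set O := (Cfsg.pPrimeCore p ↥M).map M.subtype
          have hMO : M ≤ Subgroup.normalizer (O : Set G) := by
            refine (Subgroup.normal_subgroupOf_iff_le_normalizer (Subgroup.map_subtype_le _)).1 ?_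
            rw [Subgroup.subgroupOf, Subgroup.comap_map_eq_self_of_injective M.subtype_injective]
            exact Cfsg.pPrimeCore_normal p _
          have hMHO : M ≤ Subgroup.normalizer ((H ⊔ O : Subgroup G) : Set G) := ?_
          · exact fun g r hr ho hrM => mem_of_normalizer_sup hH hab hcl hHM hMO
              (by rw [Subgroup.card_subtype]; exact CfsgLib.PCore.not_dvd_card_pPrimeCore)
              hMHO hr ho hrM
          have h3 := congrArg (Subgroup.map M.subtype) h2
          rw [Subgroup.map_sup, ← MonoidHom.range_eq_map, Subgroup.range_subtype] at h3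
          refine h3.ge.trans (sup_le ?_ (le_sup_right.trans Subgroup.le_normalizer))
          rintro _ ⟨x, hx, rfl⟩
          have hxN := (mem_normalizer_subgroupOf hHM x).1 hx
          show (x : G) ∈ Subgroup.normalizer ((H ⊔ O : Subgroup G) : Set G)
          rw [Subgroup.mem_normalizer_iff_map_conj_eq, Subgroup.map_sup,
            Subgroup.mem_normalizer_iff_map_conj_eq.1 hxN,
            Subgroup.mem_normalizer_iff_map_conj_eq.1 (hMO x.2)]
      exact eq_top_of_core hH hab (split_of_closed hH hab hcl) hM hloc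
        (fun t ht ht1 => hcen t ht ht1)
        (fun s hs hs1 hu => eq_top_of_singleton hp hH hab (split_of_closed hH hab hcl) hM hloc
          (fun t ht ht1 => hcen t ht ht1) htop hO hs hs1 hu) htop hH1
    refine ⟨?_, eq_top_iff.2 (hsplit.ge.trans (sup_le_sup_right hHN _))⟩
    rw [htop, top_inf_eq]
    refine le_antisymm (fun x hx => ?_) hHN
    by_cases hcen : ∃ a ∈ H, a ≠ 1 ∧ Subgroup.centralizer ({a} : Set G) = ⊤
    · obtain ⟨a, ha, ha1, hac⟩ := hcen
      obtain ⟨Z, hZn, hZH, hZ1, hcent, hclZ⟩ := hcentral a ha ha1 hac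
      haveI := hZn
      obtain ⟨h1, -⟩ := hquot Z hZ1 hclZ
      have hx' : x ∈ (H.map (QuotientGroup.mk' Z)).comap (QuotientGroup.mk' Z) := by
        rw [← h1, Subgroup.comap_normalizer_eq_of_surjective _ (QuotientGroup.mk'_surjective Z),
          QuotientGroup.comap_map_mk', sup_eq_right.2 hZH]
        exact hx
      rwa [QuotientGroup.comap_map_mk', sup_eq_right.2 hZH] at hx'
    push Not at hcen
    haveI : Fintype (Cfsg.pPrimeCore p G) := Fintype.ofFinite _
    set D := Cfsg.pPrimeCore p G with hDdef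
    obtain ⟨h, hh, d, hd, rfl⟩ := CfsgLib.Coprime.exists_mul_of_mem_sup
      (show H ≤ Subgroup.normalizer (D : Set G) by rw [Subgroup.normalizer_eq_top]; exact le_top)
      (show x ∈ H ⊔ D by rw [hsplit]; trivial)
    have hdN : d ∈ N := by
      have := mul_mem (inv_mem (hHN hh)) hx
      rwa [inv_mul_cancel_left] at this
    have hd1 : d = 1 := by
      refine eq_one_of_commute_of_split hp hH hab hcl htop hOp hsplit ?_ hd fun v hv => ?_
      · intro t ht ht1
        set C := Subgroup.centralizer ({t} : Set G) with hC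
        have hHC : H ≤ C := fun v hv =>
          Subgroup.mem_centralizer_singleton_iff.2 (commute_of_mem hab hv ht).eq
        obtain ⟨h1, -⟩ := ihsub C hHC (hcen t ht ht1)
        refine ⟨(Subgroup.normalClosure ((H.subgroupOf C : Subgroup C) : Set C)).map C.subtype,
          Subgroup.map_subtype_le _, ?_, ?_, ?_⟩
        · refine (Subgroup.normal_subgroupOf_iff_le_normalizer (Subgroup.map_subtype_le _)).1 ?_
          rw [Subgroup.subgroupOf, Subgroup.comap_map_eq_self_of_injective C.subtype_injective]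
          exact Subgroup.normalClosure_normal
        · exact fun v hv => ⟨⟨v, hHC hv⟩, Subgroup.subset_normalClosure hv, rfl⟩
        · rintro _ ⟨⟨y, hy, rfl⟩, hyN⟩
          exact h1.le ⟨hy, (mem_normalizer_subgroupOf hHC y).2 hyN⟩
      · have h4 : v * d * v⁻¹ * d⁻¹ ∈ H ⊓ D := by
          refine ⟨?_, D.mul_mem (hOn.conj_mem d hd v) (D.inv_mem hd)⟩
          rw [show v * d * v⁻¹ * d⁻¹ = v * (d * v⁻¹ * d⁻¹) by group]
          exact H.mul_mem hv ((Subgroup.mem_normalizer_iff.1 hdN _).1 (H.inv_mem hv))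
        rw [inf_eq_bot_of_not_dvd hH hOp, Subgroup.mem_bot, mul_inv_eq_one,
          mul_inv_eq_iff_eq_mul] at h4
        exact h4
    rw [hd1, mul_one]
    exact hh

end CfsgLib.ExtClosed
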