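import Cfsg.Agent.Lib.ExtClosed.Singleton

/-!
With fusion in `H` and a generating pair of pair subgroups, the column norms over the elements of `H`
in the principal block violate a second moment inequality.
-/

set_option autoImplicit false
set_option linter.style.haveILetI false

namespace CfsgLib.ExtClosed

open Cfsg CfsgLib.Characters CfsgLib.Blocks
open scoped ComplexConjugate

universe u

variable {G : Type u} [Group G] [Fintype G] {p : ℕ} [Fact p.Prime] {H : Subgroup G}
  {M : Ideal AlgInt}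

/-- The conjugates of `b` in `H`. -/
noncomputable def hcls (H : Subgroup G) (b : G) : Finset G := by
  classical exact (nonid H).filter (fun x => IsConj b x)

omit [Fact p.Prime] in
theorem mem_hcls {b x : G} : x ∈ hcls H b ↔ x ∈ nonid H ∧ IsConj b x := by
  classical simp [hcls]

theorem proj_mem_hcls (hH : IsPGroup p H) (hab : IsMulCommutative H)
    (hsp : PairSplit H p) {b : G} (hb : b ∈ H) (hb1 : b ≠ 1) {y : G} (hy : y ∈ cls b) :
    proj H p y ∈ hcls H b := by
  obtain ⟨e, rfl⟩ := isConj_iff.1 (mem_cls.1 hy)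
  have hc := isConj_proj hH hab hsp (g := e) hb
  refine mem_hcls.2 ⟨mem_nonid.2 ⟨proj_mem _, fun h => hb1 ?_⟩, hc⟩
  rw [h] at hc
  exact isConj_one_left.1 hc

open scoped Classical in
/-- The projection takes every value in the class equally often. -/
theorem card_fiber (hH : IsPGroup p H) (hab : IsMulCommutative H)
    (hsp : PairSplit H p) {b : G} (hb : b ∈ H) (hb1 : b ≠ 1) {s : G}
    (hs : s ∈ hcls H b) :
    (hcls H b).card * ((cls b).filter (fun y => proj H p y = s)).card = (cls b).card := by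
  have hconst : ∀ t ∈ hcls H b,
      ((cls b).filter (fun y => proj H p y = t)).card =
        ((cls b).filter (fun y => proj H p y = b)).card := by
    intro t ht
    obtain ⟨ht', htc⟩ := mem_hcls.1 ht
    obtain ⟨g, hg⟩ := isConj_iff.1 htc
    obtain ⟨n, hn, hnb⟩ := exists_normalizer_conj hH hab hsp hb (hg ▸ (mem_nonid.1 ht').1)
    rw [hg] at hnb
    refine (Finset.card_equiv (MulAut.conj n).toEquiv fun y => ?_).symm
    show y ∈ (cls b).filter (fun y => proj H p y = b) ↔
      n * y * n⁻¹ ∈ (cls b).filter (fun y => proj H p y = t)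
    rw [Finset.mem_filter, Finset.mem_filter, mem_cls, mem_cls]
    constructor
    · rintro ⟨hy, hp⟩
      obtain ⟨e, rfl⟩ := isConj_iff.1 hy
      refine ⟨hy.trans (isConj_iff.2 ⟨n, rfl⟩), ?_⟩
      rw [proj_conj_normalizer hH hab hsp (conj_mem_pair e hb) hn, hp, hnb]
    · rintro ⟨hy, hp⟩
      have hy' : IsConj b y := hy.trans (isConj_iff.2 ⟨n⁻¹, by group⟩)
      refine ⟨hy', ?_⟩
      obtain ⟨e, rfl⟩ := isConj_iff.1 hy'
      rw [proj_conj_normalizer hH hab hsp (conj_mem_pair e hb) hn, ← hnb] at hp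
      exact mul_left_cancel (mul_right_cancel hp)
  rw [Finset.card_eq_sum_card_fiberwise fun y hy => proj_mem_hcls hH hab hsp hb hb1 hy,
    Finset.sum_congr rfl fun t ht => (hconst t ht).trans (hconst s hs).symm, Finset.sum_const,
    smul_eq_mul]

/-- The bound from a generating pair of pair subgroups. -/
theorem eight_card_mul_sq_le (hH : IsPGroup p H) (hab : IsMulCommutative H)
    (hsp : PairSplit H p) (hM : IsPModular p M) (hloc : LocalHyp H p)
    (hZ : ∀ t ∈ H, t ≠ 1 → Subgroup.centralizer ({t} : Set G) ≠ ⊤) {g₁ g₂ : G}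
    (htri : pair H g₁ ⊔ pair H g₂ = ⊤) {χ : IrrCharacter G} (hχ : χ ∈ bset M G)
    (hnl : (χ : G → ℂ) 1 ≠ 1) (b : G) :
    8 * ((hcls H b).card : ℝ) * ‖(χ : G → ℂ) b‖ ^ 2 ≤ ‖(χ : G → ℂ) 1‖ ^ 2 := by
  classical
  obtain ⟨χ', n, ρ, hρ, rfl⟩ := χ
  haveI := hρ
  letI := Fintype.ofFinite H
  show 8 * _ * ‖ρ.character b‖ ^ 2 ≤ ‖ρ.character 1‖ ^ 2
  have hd : ρ.character 1 = (n : ℂ) := by rw [Representation.char_one, Module.finrank_fin_fun]
  have hn : n ≠ 1 := fun h => hnl (by show ρ.character 1 = 1; rw [hd, h, Nat.cast_one])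
  have hv : ∀ g, ∀ t ∈ H, t ≠ 1 → ∀ r ∈ compl hH hab hsp g,
      ρ.character (t * r) = ρ.character t := fun g t ht ht1 r hr =>
    value_coset hH hab hsp hM hloc hZ (mem_bset.1 hχ) ht ht1 hr
  have htop' : H ⊔ compl hH hab hsp g₁ ⊔ compl hH hab hsp g₂ = ⊤ := by
    rw [← htri, ← compl_sup hH hab hsp g₁, ← compl_sup hH hab hsp g₂]
    refine le_antisymm (sup_le le_sup_left (le_sup_right.trans le_sup_right)) ?_
    exact sup_le le_sup_left (sup_le (le_sup_left.trans le_sup_left) le_sup_right)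
  have hmain := eight_sum_sq_le ρ hab (le_normalizer_compl hH hab hsp g₁)
    (le_normalizer_compl hH hab hsp g₂) htop' hn (hv g₁) (hv g₂)
  rw [hd, Complex.norm_natCast, mul_assoc]
  refine le_trans ?_ hmain
  refine mul_le_mul_of_nonneg_left ?_ (by norm_num)
  have h1 : ∑ x ∈ hcls H b, ‖ρ.character x‖ ^ 2 = ((hcls H b).card : ℝ) * ‖ρ.character b‖ ^ 2 := by
    rw [Finset.sum_congr rfl fun x hx => ?_, Finset.sum_const, nsmul_eq_mul]
    rw [classFunction_eq_of_isConj (fun g h => ρ.char_conj g h) (mem_hcls.1 hx).2]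
  rw [← h1]
  calc ∑ x ∈ hcls H b, ‖ρ.character x‖ ^ 2 ≤ ∑ x ∈ nonid H, ‖ρ.character x‖ ^ 2 :=
        Finset.sum_le_sum_of_subset_of_nonneg (fun x hx => (mem_hcls.1 hx).1)
          fun _ _ _ => by positivity
    _ = ∑ x ∈ Finset.univ.erase (1 : H), ‖ρ.character (x : G)‖ ^ 2 := by
        refine (Finset.sum_bij (fun (x : H) _ => (x : G)) ?_ ?_ ?_ fun x _ => rfl).symm
        · exact fun x hx => mem_nonid.2 ⟨x.2, fun e => (Finset.mem_erase.1 hx).1 (Subtype.ext e)⟩
        · exact fun x _ y _ h => Subtype.ext h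
        · exact fun x hx => ⟨⟨x, (mem_nonid.1 hx).1⟩, Finset.mem_erase.2
            ⟨fun e => (mem_nonid.1 hx).2 (congrArg Subtype.val e), Finset.mem_univ _⟩, rfl⟩

open scoped Classical in
/-- Products of columns at `a` and at projections. -/
theorem fiber_le (hH : IsPGroup p H) (hab : IsMulCommutative H)
    (hsp : PairSplit H p) (hM : IsPModular p M) (hloc : LocalHyp H p)
    (hZ : ∀ t ∈ H, t ≠ 1 → Subgroup.centralizer ({t} : Set G) ≠ ⊤) {a b : G} (ha : a ∈ H)
    (hb : b ∈ H) :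
    ∑ y ∈ (cls b).filter (fun y => a * proj H p y ≠ 1),
        (((cls b).filter (fun z => proj H p z = proj H p y)).card : ℝ) * bnorm M (a * proj H p y) ≤
      ((cls b).card : ℝ) ^ 2 *
        ∑ χ ∈ bset M G, (‖(χ : G → ℂ) b‖ / ‖(χ : G → ℂ) 1‖) ^ 2 * ‖(χ : G → ℂ) a‖ ^ 2 := by
  set Y₁ := (cls b).filter (fun y => a * proj H p y ≠ 1) with hY₁
  set Y₀ := (cls b).filter (fun y => ¬ a * proj H p y ≠ 1) with hY₀
  let P : IrrCharacter G → ℂ := fun χ => ∑ y ∈ Y₁, (χ : G → ℂ) (a * proj H p y)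
  let R : IrrCharacter G → ℂ := fun χ => ∑ y ∈ Y₀, (χ : G → ℂ) (a * y)
  have hmem : ∀ y ∈ cls b, ∃ e : G, y ∈ pair H e := fun y hy => by
    obtain ⟨e, rfl⟩ := isConj_iff.1 (mem_cls.1 hy)
    exact ⟨e, conj_mem_pair e hb⟩
  have hsplit : ∀ χ ∈ bset M G, ((cls b).card : ℂ) * ((χ : G → ℂ) b / (χ : G → ℂ) 1) *
      (χ : G → ℂ) a = P χ + R χ := by
    intro χ hχ
    rw [← sum_cls_value, ← Finset.sum_filter_add_sum_filter_not (cls b)
      (fun y => a * proj H p y ≠ 1)]
    congr 1
    refine Finset.sum_congr rfl fun y hy => ?_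
    obtain ⟨hy1, hy2⟩ := Finset.mem_filter.1 hy
    obtain ⟨e, he⟩ := hmem y hy1
    have := value_coset hH hab hsp hM hloc hZ (mem_bset.1 hχ) (H.mul_mem ha (proj_mem y)) hy2
      (proj_decomp hH hab hsp he)
    rwa [mul_assoc, mul_inv_cancel_left] at this
  have hcross : ∑ χ ∈ bset M G, R χ * conj (P χ) = 0 := by
    simp only [R, P, map_sum, Finset.sum_mul, Finset.mul_sum]
    rw [Finset.sum_comm]
    refine Finset.sum_eq_zero fun y hy => ?_
    rw [Finset.sum_comm]
    refine Finset.sum_eq_zero fun z hz => sum_principal_regular hM ?_ ?_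
    all_goals obtain ⟨hy1, hy2⟩ := Finset.mem_filter.1 hy
    all_goals obtain ⟨hz1, hz2⟩ := Finset.mem_filter.1 hz
    all_goals first
      | (obtain ⟨e, he⟩ := hmem _ hy1
         rw [not_not] at hy2
         rw [eq_inv_of_mul_eq_one_left hy2]
         exact proj_regular hH hab hsp he)
      | exact dvd_orderOf_of_ne_one (exists_pow_of_mem hH (H.mul_mem ha (proj_mem _))) hz2
      | (obtain ⟨e, he⟩ := hmem _ hz1
         rw [not_not] at hz2
         rw [eq_inv_of_mul_eq_one_left hz2]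
         exact proj_regular hH hab hsp he)
      | exact dvd_orderOf_of_ne_one (exists_pow_of_mem hH (H.mul_mem ha (proj_mem _))) hy2
  -- Pythagoras
  have hpy : ∑ χ ∈ bset M G, ‖P χ‖ ^ 2 ≤ ∑ χ ∈ bset M G, ‖P χ + R χ‖ ^ 2 := by
    have e : ∀ χ : IrrCharacter G,
        ‖P χ + R χ‖ ^ 2 = ‖P χ‖ ^ 2 + ‖R χ‖ ^ 2 + 2 * (R χ * conj (P χ)).re := by
      intro χ
      rw [← Complex.normSq_eq_norm_sq, ← Complex.normSq_eq_norm_sq, ← Complex.normSq_eq_norm_sq,
        add_comm (P χ), Complex.normSq_add]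
      ring
    rw [Finset.sum_congr rfl fun χ _ => e χ, Finset.sum_add_distrib, Finset.sum_add_distrib,
      ← Finset.mul_sum, ← Complex.re_sum, hcross, Complex.zero_re, mul_zero, add_zero]
    exact le_add_of_nonneg_right (Finset.sum_nonneg fun _ _ => by positivity)
  -- the diagonal of the sum of squares
  have hPP : ∑ y ∈ Y₁, (((cls b).filter (fun z => proj H p z = proj H p y)).card : ℝ) *
      bnorm M (a * proj H p y) ≤ ∑ χ ∈ bset M G, ‖P χ‖ ^ 2 := by
    let N : G → G → ℝ := fun s t => (∑ χ ∈ bset M G, (χ : G → ℂ) s * conj ((χ : G → ℂ) t)).re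
    have e : ∑ χ ∈ bset M G, ‖P χ‖ ^ 2 =
        ∑ y ∈ Y₁, ∑ z ∈ Y₁, N (a * proj H p y) (a * proj H p z) := by
      calc ∑ χ ∈ bset M G, ‖P χ‖ ^ 2
          = ∑ χ ∈ bset M G, ∑ y ∈ Y₁, ∑ z ∈ Y₁,
              ((χ : G → ℂ) (a * proj H p y) * conj ((χ : G → ℂ) (a * proj H p z))).re := by
            refine Finset.sum_congr rfl fun χ _ => ?_
            rw [← Complex.normSq_eq_norm_sq, ← Complex.ofReal_re (Complex.normSq (P χ)),
              ← Complex.mul_conj]
            simp only [P, map_sum, Finset.sum_mul, Complex.re_sum, Finset.mul_sum]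
            rw [Finset.sum_comm]
        _ = ∑ y ∈ Y₁, ∑ z ∈ Y₁, N (a * proj H p y) (a * proj H p z) := by
            rw [Finset.sum_comm]
            refine Finset.sum_congr rfl fun y _ => ?_
            rw [Finset.sum_comm]
            simp only [N, Complex.re_sum]
    have hN : ∀ s t : G, (∃ k : ℕ, orderOf s = p ^ k) → (∃ k : ℕ, orderOf t = p ^ k) →
        0 ≤ N s t := by
      intro s t hs ht
      by_cases hc : IsConj s t
      · refine le_of_le_of_eq (bnorm_nonneg (M := M) s) ?_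
        simp only [N, Complex.re_sum]
        unfold bnorm
        refine Finset.sum_congr rfl fun χ _ => ?_
        rw [← classFunction_eq_of_isConj (irr_isClassFunction χ) hc, Complex.mul_conj,
          Complex.ofReal_re, Complex.normSq_eq_norm_sq]
      · simp only [N, sum_principal_conj_eq_zero hM hs ht hc, Complex.zero_re, le_refl]
    have hNd : ∀ s : G, N s s = bnorm M s := by
      intro s
      simp only [N, Complex.re_sum]
      unfold bnorm
      refine Finset.sum_congr rfl fun χ _ => ?_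
      rw [Complex.mul_conj, Complex.ofReal_re, Complex.normSq_eq_norm_sq]
    rw [e]
    refine Finset.sum_le_sum fun y hy => ?_
    have hsub : (cls b).filter (fun z => proj H p z = proj H p y) ⊆ Y₁ := fun z hz => by
      obtain ⟨hz1, hz2⟩ := Finset.mem_filter.1 hz
      exact Finset.mem_filter.2 ⟨hz1, by rw [hz2]; exact (Finset.mem_filter.1 hy).2⟩
    refine le_trans (le_of_eq ?_) (Finset.sum_le_sum_of_subset_of_nonneg hsub fun z _ _ =>
      hN _ _ (exists_pow_of_mem hH (H.mul_mem ha (proj_mem _)))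
        (exists_pow_of_mem hH (H.mul_mem ha (proj_mem _))))
    rw [Finset.sum_congr rfl fun z hz => by rw [(Finset.mem_filter.1 hz).2, hNd]]
    rw [Finset.sum_const, nsmul_eq_mul]
  calc _ ≤ ∑ χ ∈ bset M G, ‖P χ‖ ^ 2 := hPP
    _ ≤ ∑ χ ∈ bset M G, ‖P χ + R χ‖ ^ 2 := hpy
    _ = _ := by
      rw [Finset.mul_sum]
      refine Finset.sum_congr rfl fun χ hχ => ?_
      rw [← hsplit χ hχ, norm_mul, norm_mul, norm_div, Complex.norm_natCast]
      ring

end CfsgLib.ExtClosed
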