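import Cfsg.Agent.Lib.ExtClosed.Fusion
import Cfsg.Agent.Lib.PCore.PSolvable
import Cfsg.Agent.Lib.Involutions.BrauerSuzuki
import Cfsg.Prelude.Def_TwoFusion
import Cfsg.Prelude.Def_IsolatedElements

/-!
A finite group is `p`-solvable when any two Sylow `p`-subgroups generate a `p`-solvable subgroup.
In a minimal counterexample, a simple group, the subgroup `W` generated by the conjugates in a Sylow
subgroup `P` of an element of order `p` of the centre of `P` is an elementary abelian subgroup with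
split pairs satisfying the local hypothesis, so the principal block theorem applies.
-/

set_option autoImplicit false
set_option linter.unusedSectionVars false
set_option linter.style.haveILetI false

namespace CfsgLib.ExtClosed

open Cfsg CfsgLib.Characters CfsgLib.Blocks

universe u

variable {G : Type u} [Group G] {p : ℕ}

/-- Any two Sylow subgroups generate a `p`-solvable subgroup. -/
def SylowPairs (p : ℕ) (G : Type u) [Group G] : Prop :=
  ∀ S T : Sylow p G, Cfsg.IsPSolvable p ↥((S : Subgroup G) ⊔ (T : Subgroup G))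

/-- `O_{p'}` of a subgroup, inside the group. -/
def coreIn (p : ℕ) (X : Subgroup G) : Subgroup G := (Cfsg.pPrimeCore p ↥X).map X.subtype

variable [Finite G] [hp : Fact p.Prime]

theorem coreIn_le (X : Subgroup G) : coreIn p X ≤ X := Subgroup.map_subtype_le _

theorem le_normalizer_coreIn (X : Subgroup G) :
    X ≤ Subgroup.normalizer (coreIn p X : Set G) := by
  refine (Subgroup.normal_subgroupOf_iff_le_normalizer (Subgroup.map_subtype_le _)).1 ?_
  rw [Subgroup.subgroupOf, Subgroup.comap_map_eq_self_of_injective X.subtype_injective]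
  exact Cfsg.pPrimeCore_normal p _

theorem not_dvd_card_coreIn (X : Subgroup G) : ¬ p ∣ Nat.card (coreIn p X) := by
  rw [coreIn, Subgroup.card_subtype]
  exact CfsgLib.PCore.not_dvd_card_pPrimeCore

theorem isPSolvable_of_le {A B : Subgroup G} (h : A ≤ B) (hB : Cfsg.IsPSolvable p ↥B) :
    Cfsg.IsPSolvable p ↥A :=
  CfsgLib.PCore.isPSolvable_of_injective (Subgroup.inclusion h) (Subgroup.inclusion_injective h) hB

/-- In a `p`-solvable group an element centralising a Sylow subgroup that contains it lies in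
`O_p` modulo `O_{p'}`. -/
theorem mk_mem_pCore_of_central (h : Cfsg.IsPSolvable p G) (S : Sylow p G) {y : G}
    (hy : ∀ s ∈ (S : Subgroup G), Commute s y)
    [(Cfsg.pPrimeCore p G).Normal] :
    QuotientGroup.mk' (Cfsg.pPrimeCore p G) y ∈
      Cfsg.pCore p (G ⧸ Cfsg.pPrimeCore p G) := by
  have hs := QuotientGroup.mk'_surjective (Cfsg.pPrimeCore p G)
  refine CfsgLib.PCore.centralizer_pCore_le (CfsgLib.PCore.isPSolvable_quotient h _)
    CfsgLib.PCore.pPrimeCore_quotient_pPrimeCore (Subgroup.mem_centralizer_iff.2 fun r hr => ?_)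
  have h1 := CfsgLib.PCore.pCore_le_sylow (S.mapSurjective hs) hr
  rw [Sylow.coe_mapSurjective] at h1
  obtain ⟨s, hs', rfl⟩ := h1
  exact ((hy s hs').map _).eq

/-- Two such elements generating a `p`-group commute. -/
theorem commute_of_central (h : Cfsg.IsPSolvable p G) (S T : Sylow p G) {d e : G}
    (hd : ∀ s ∈ (S : Subgroup G), Commute s d) (he : ∀ s ∈ (T : Subgroup G), Commute s e)
    {U : Subgroup G} (hU : IsPGroup p U) (hdU : d ∈ U) (heU : e ∈ U) : Commute d e := by
  haveI := Cfsg.pPrimeCore_normal p G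
  set π := QuotientGroup.mk' (Cfsg.pPrimeCore p G) with hπ
  have hd' := mk_mem_pCore_of_central h S hd
  have h1 := CfsgLib.PCore.pCore_le_sylow
    (T.mapSurjective (QuotientGroup.mk'_surjective (Cfsg.pPrimeCore p G))) hd'
  rw [Sylow.coe_mapSurjective] at h1
  obtain ⟨s, hs, hse⟩ := h1
  have hcomm : Commute (π d) (π e) := hse ▸ (he s hs).map _
  have hmem : d * e * d⁻¹ * e⁻¹ ∈ U ⊓ Cfsg.pPrimeCore p G :=
    ⟨U.mul_mem (U.mul_mem (U.mul_mem hdU heU) (U.inv_mem hdU)) (U.inv_mem heU), by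
      show d * e * d⁻¹ * e⁻¹ ∈ Cfsg.pPrimeCore p G
      rw [← QuotientGroup.ker_mk' (Cfsg.pPrimeCore p G), MonoidHom.mem_ker]
      show π (d * e * d⁻¹ * e⁻¹) = 1
      rw [map_mul, map_mul, map_mul, map_inv, map_inv, hcomm.eq]
      group⟩
  rw [CfsgLib.PCore.inf_eq_bot_of_isPGroup_coprime hU CfsgLib.PCore.pPrimeCore_coprime,
    Subgroup.mem_bot, mul_inv_eq_one, mul_inv_eq_iff_eq_mul] at hmem
  exact hmem

/-- Such an element is conjugate under `O_{p'}` into every Sylow subgroup. -/
theorem exists_conj_mem_sylow (h : Cfsg.IsPSolvable p G) (S T : Sylow p G) {y : G}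
    (hy : ∀ s ∈ (S : Subgroup G), Commute s y) (hyp : y ∈ (S : Subgroup G)) :
    ∃ x ∈ Cfsg.pPrimeCore p G, x * y * x⁻¹ ∈ (T : Subgroup G) := by
  haveI := Cfsg.pPrimeCore_normal p G
  have h1 : y ∈ (T : Subgroup G) ⊔ Cfsg.pPrimeCore p G := by
    rw [sup_comm]
    exact CfsgLib.PCore.pPrimePCore_le_sup_sylow T (mk_mem_pCore_of_central h S hy)
  have hyP : IsPGroup p ↥(Subgroup.zpowers y) := S.2.to_le (Subgroup.zpowers_le.2 hyp)
  have hO := CfsgLib.PCore.not_dvd_card_pPrimeCore (p := p) (G := G)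
  obtain ⟨x, hx, hle⟩ := CfsgLib.Coprime.exists_conj_le_of_coprime (T : Subgroup G)
    (Cfsg.pPrimeCore p G) (by rw [Subgroup.normalizer_eq_top]; exact le_top)
    (coprime_of_not_dvd T.2 hO) (Subgroup.zpowers y) (Subgroup.zpowers_le.2 h1)
    (coprime_of_not_dvd hyP hO) (Or.inl inferInstance)
  exact ⟨x, hx, CfsgLib.Coprime.conj_smul_le.1 hle y (Subgroup.mem_zpowers y)⟩

/-- A `p'`-subgroup normalised by a Sylow subgroup lies in `O_{p'}`. -/
theorem le_pPrimeCore_of_invariant (h : Cfsg.IsPSolvable p G) (T : Sylow p G) {R : Subgroup G}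
    (hR : ¬ p ∣ Nat.card R) (hTR : (T : Subgroup G) ≤ Subgroup.normalizer (R : Set G)) :
    R ≤ Cfsg.pPrimeCore p G := by
  haveI := Cfsg.pPrimeCore_normal p G
  set π := QuotientGroup.mk' (Cfsg.pPrimeCore p G) with hπ
  have hs := QuotientGroup.mk'_surjective (Cfsg.pPrimeCore p G)
  set C := Cfsg.pCore p (G ⧸ Cfsg.pPrimeCore p G) with hC
  haveI : C.Normal := Cfsg.pCore_normal p _
  have hR' : ¬ p ∣ Nat.card (R.map π) := fun hd => hR (hd.trans (Subgroup.card_map_dvd _ _))
  have hbot : C ⊓ R.map π = ⊥ :=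
    inf_eq_bot_of_not_dvd CfsgLib.PCore.pCore_isPGroup hR'
  intro r hr
  have hrC : π r ∈ C := by
    refine CfsgLib.PCore.centralizer_pCore_le (CfsgLib.PCore.isPSolvable_quotient h _)
      CfsgLib.PCore.pPrimeCore_quotient_pPrimeCore (Subgroup.mem_centralizer_iff.2 fun a ha => ?_)
    have h1 := CfsgLib.PCore.pCore_le_sylow (T.mapSurjective hs) ha
    rw [Sylow.coe_mapSurjective] at h1
    obtain ⟨t, ht, rfl⟩ := h1
    have hmem : π t * π r * (π t)⁻¹ * (π r)⁻¹ ∈ C ⊓ R.map π := by
      refine ⟨?_, ⟨t * r * t⁻¹ * r⁻¹,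
        R.mul_mem ((Subgroup.mem_normalizer_iff.1 (hTR ht) r).1 hr) (R.inv_mem hr), by
          simp only [map_mul, map_inv]⟩⟩
      rw [show π t * π r * (π t)⁻¹ * (π r)⁻¹ = π t * (π r * (π t)⁻¹ * (π r)⁻¹) by group]
      exact C.mul_mem ha ((inferInstance : C.Normal).conj_mem _ (C.inv_mem ha) _)
    rw [hbot, Subgroup.mem_bot, mul_inv_eq_one, mul_inv_eq_iff_eq_mul] at hmem
    exact hmem
  have h2 : π r ∈ C ⊓ R.map π := ⟨hrC, ⟨r, hr, rfl⟩⟩
  rw [hbot, Subgroup.mem_bot] at h2
  exact (QuotientGroup.eq_one_iff r).1 h2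

/-- The same inside a `p`-solvable subgroup. -/
theorem le_coreIn_of_invariant {L : Subgroup G} (h : Cfsg.IsPSolvable p ↥L) (T : Sylow p ↥L)
    {R : Subgroup G} (hRL : R ≤ L) (hR : ¬ p ∣ Nat.card R)
    (hTR : (T : Subgroup ↥L).map L.subtype ≤ Subgroup.normalizer (R : Set G)) :
    R ≤ coreIn p L := by
  intro r hr
  refine ⟨⟨r, hRL hr⟩, le_pPrimeCore_of_invariant h T (R := R.subgroupOf L) ?_ ?_ hr, rfl⟩
  · rwa [Nat.card_congr (Subgroup.subgroupOfEquivOfLe hRL).toEquiv]
  · intro t ht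
    exact CfsgLib.Coprime.mem_normalizer_of_forall_conj fun y hy =>
      (Subgroup.mem_normalizer_iff.1 (hTR ⟨t, ht, rfl⟩) y).1 hy

/-- The subgroup generated by the conjugates of `z` in `S`. -/
def conjClosure (z : G) (S : Subgroup G) : Subgroup G :=
  Subgroup.closure {y | IsConj z y ∧ y ∈ S}

omit [Finite G] in
theorem conjClosure_le (z : G) (S : Subgroup G) : conjClosure z S ≤ S :=
  (Subgroup.closure_le _).2 fun _ hy => hy.2

omit [Finite G] in
theorem mem_conjClosure {z y : G} {S : Subgroup G} (hc : IsConj z y) (hy : y ∈ S) :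
    y ∈ conjClosure z S :=
  Subgroup.subset_closure ⟨hc, hy⟩

omit [Finite G] in
theorem map_conjClosure (z g : G) (S : Subgroup G) :
    (conjClosure z S).map (MulAut.conj g).toMonoidHom =
      conjClosure z (S.map (MulAut.conj g).toMonoidHom) := by
  rw [conjClosure, conjClosure, MonoidHom.map_closure]
  congr 1
  ext y
  constructor
  · rintro ⟨x, ⟨hx1, hx2⟩, rfl⟩
    exact ⟨hx1.trans (isConj_iff.2 ⟨g, rfl⟩), x, hx2, rfl⟩
  · rintro ⟨h1, x, hx, rfl⟩
    exact ⟨x, ⟨h1.trans (isConj_iff.2 ⟨g, rfl⟩ : IsConj x (g * x * g⁻¹)).symm, hx⟩, rfl⟩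

/-- A conjugate of a central element of a Sylow subgroup is central in one containing it. -/
theorem exists_central_sylow (P : Sylow p G) {z y : G} (hz : z ∈ (P : Subgroup G))
    (hzc : ∀ s ∈ (P : Subgroup G), Commute s z) (hy : IsConj z y) :
    ∃ S : Sylow p G, y ∈ (S : Subgroup G) ∧ ∀ s ∈ (S : Subgroup G), Commute s y := by
  obtain ⟨g, rfl⟩ := isConj_iff.1 hy
  have e : ((g • P : Sylow p G) : Subgroup G) =
      (P : Subgroup G).map (MulAut.conj g).toMonoidHom := rfl
  refine ⟨g • P, ?_, ?_⟩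
  · rw [e]; exact ⟨z, hz, rfl⟩
  · rw [e]
    rintro _ ⟨s, hs, rfl⟩
    exact (hzc s hs).map (MulAut.conj g).toMonoidHom

section

variable (hpairs : SylowPairs p G) (P : Sylow p G) {z : G} (hz : z ∈ (P : Subgroup G))
  (hzc : ∀ s ∈ (P : Subgroup G), Commute s z)

include hpairs hz hzc

/-- Two conjugates of `z` in one Sylow subgroup commute. -/
theorem commute_conj {d e : G} (hd : IsConj z d) (he : IsConj z e) (T : Sylow p G)
    (hdT : d ∈ (T : Subgroup G)) (heT : e ∈ (T : Subgroup G)) : Commute d e := by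
  obtain ⟨S, hdS, hS⟩ := exists_central_sylow P hz hzc hd
  obtain ⟨S', heS, hS'⟩ := exists_central_sylow P hz hzc he
  set X := (S : Subgroup G) ⊔ (S' : Subgroup G)
  have hdX : d ∈ X := Subgroup.mem_sup_left hdS
  have heX : e ∈ X := Subgroup.mem_sup_right heS
  have h := commute_of_central (hpairs S S') (S.subtype (le_sup_left : _ ≤ X))
    (S'.subtype (le_sup_right : _ ≤ X)) (d := ⟨d, hdX⟩) (e := ⟨e, heX⟩)
    (fun s hs => Subtype.ext (hS s hs).eq) (fun s hs => Subtype.ext (hS' s hs).eq)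
    (U := (T : Subgroup G).subgroupOf X) T.2.comap_subtype hdT heT
  exact congrArg Subtype.val h.eq

theorem isMulCommutative_conjClosure (T : Sylow p G) :
    IsMulCommutative (conjClosure z (T : Subgroup G)) :=
  Subgroup.isMulCommutative_closure fun a ha b hb =>
    (commute_conj hpairs P hz hzc ha.1 hb.1 T ha.2 hb.2).eq

theorem pow_eq_one_of_mem_conjClosure (hzp : z ^ p = 1) (T : Sylow p G) {w : G}
    (hw : w ∈ conjClosure z (T : Subgroup G)) : w ^ p = 1 := by
  have hab := isMulCommutative_conjClosure hpairs P hz hzc T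
  induction hw using Subgroup.closure_induction with
  | mem x hx =>
    obtain ⟨g, rfl⟩ := isConj_iff.1 hx.1
    rw [conj_pow, hzp, mul_one, mul_inv_cancel]
  | one => exact one_pow p
  | mul x y hx hy ihx ihy =>
    rw [(commute_of_mem hab hx hy).mul_pow, ihx, ihy, one_mul]
  | inv x _ ih => rw [inv_pow, ih, inv_one]

omit hpairs hz hzc in
theorem conjClosure_eq_of_le (T : Sylow p G) (hT : conjClosure z (P : Subgroup G) ≤ T) :
    conjClosure z (T : Subgroup G) = conjClosure z (P : Subgroup G) := by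
  have h1 : conjClosure z (P : Subgroup G) ≤ conjClosure z (T : Subgroup G) :=
    (Subgroup.closure_le _).2 fun y hy => mem_conjClosure hy.1 (hT (mem_conjClosure hy.1 hy.2))
  obtain ⟨g, rfl⟩ := MulAction.exists_smul_eq G P T
  refine (Subgroup.eq_of_le_of_card_ge h1 (le_of_eq ?_)).symm
  rw [show ((g • P : Sylow p G) : Subgroup G) =
    (P : Subgroup G).map (MulAut.conj g).toMonoidHom from rfl, ← map_conjClosure,
    Subgroup.card_map_of_injective (MulAut.conj g).injective]

/-- Conjugates of `z` in a `p`-solvable `L` lie in `W O_{p'}(L)`, if a Sylow subgroup of `L` lies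
with `W` in one of `G`. -/
theorem mem_sup_coreIn {L : Subgroup G} (hL : Cfsg.IsPSolvable p ↥L)
    (hWL : conjClosure z (P : Subgroup G) ≤ L) (T : Sylow p G)
    (hWT : conjClosure z (P : Subgroup G) ≤ T) (TL : Sylow p ↥L)
    (hTL : (TL : Subgroup ↥L).map L.subtype ≤ T) {y : G} (hy : IsConj z y) (hyL : y ∈ L) :
    y ∈ conjClosure z (P : Subgroup G) ⊔ coreIn p L := by
  obtain ⟨S, hyS, hS⟩ := exists_central_sylow P hz hzc hy
  set X := (T : Subgroup G) ⊔ (S : Subgroup G)
  have hyX : y ∈ X := Subgroup.mem_sup_right hyS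
  obtain ⟨x, hx, hxy⟩ := exists_conj_mem_sylow (hpairs T S) (S.subtype (le_sup_right : _ ≤ X))
    (T.subtype (le_sup_left : _ ≤ X)) (y := ⟨y, hyX⟩) (fun s hs => Subtype.ext (hS s hs).eq) hyS
  set w := (x : G) * y * (x : G)⁻¹
  have hxyT : w ∈ (T : Subgroup G) := hxy
  have hw : w ∈ conjClosure z (P : Subgroup G) :=
    conjClosure_eq_of_le P T hWT ▸ mem_conjClosure (hy.trans (isConj_iff.2 ⟨_, rfl⟩)) hxyT
  have hxO : (x : G) ∈ coreIn p X := ⟨x, hx, rfl⟩
  have hr : w⁻¹ * y ∈ coreIn p X := by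
    rw [show w⁻¹ * y = (x : G) * (y⁻¹ * (x : G)⁻¹ * y) by simp only [w]; group]
    exact mul_mem hxO ((Subgroup.mem_normalizer_iff''.1 (le_normalizer_coreIn X hyX) _).1
      (inv_mem hxO))
  have hR : L ⊓ coreIn p X ≤ coreIn p L := by
    refine le_coreIn_of_invariant hL TL inf_le_left
      (fun hd => not_dvd_card_coreIn (p := p) X (hd.trans (Subgroup.card_dvd_of_le inf_le_right)))
      fun t ht => ?_
    have htL : t ∈ L := Subgroup.map_subtype_le _ ht
    refine CfsgLib.Coprime.mem_normalizer_of_forall_conj fun a ha =>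
      ⟨L.mul_mem (L.mul_mem htL ha.1) (L.inv_mem htL), ?_⟩
    exact (Subgroup.mem_normalizer_iff.1
      (le_normalizer_coreIn X (Subgroup.mem_sup_left (hTL ht))) a).1 ha.2
  have := Subgroup.mul_mem_sup hw (hR ⟨L.mul_mem (L.inv_mem (hWL hw)) hyL, hr⟩)
  rwa [mul_inv_cancel_left] at this

omit hpairs hz hzc in
/-- A Sylow subgroup of `L` and one of `G` above it, both containing `W`. -/
theorem exists_sylow_over {L : Subgroup G} (hWL : conjClosure z (P : Subgroup G) ≤ L) :
    ∃ (TL : Sylow p ↥L) (T : Sylow p G), conjClosure z (P : Subgroup G) ≤ T ∧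
      (TL : Subgroup ↥L).map L.subtype ≤ T := by
  obtain ⟨TL, hTL⟩ := ((P.2.to_le (conjClosure_le z _)).comap_subtype (K := L)).exists_le_sylow
  obtain ⟨T, hT⟩ := (TL.2.map L.subtype).exists_le_sylow
  exact ⟨TL, T, fun w hw => hT ⟨⟨w, hWL hw⟩, hTL hw, rfl⟩, hT⟩

/-- For `L` over `W` containing `g W g⁻¹`, the pair lies in `W O_{p'}(L)`. -/
theorem pair_le_sup_coreIn {L : Subgroup G} (hL : Cfsg.IsPSolvable p ↥L)
    (hWL : conjClosure z (P : Subgroup G) ≤ L) (T : Sylow p G)
    (hWT : conjClosure z (P : Subgroup G) ≤ T) (TL : Sylow p ↥L)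
    (hTL : (TL : Subgroup ↥L).map L.subtype ≤ T) {g : G}
    (hgL : (conjClosure z (P : Subgroup G)).map (MulAut.conj g).toMonoidHom ≤ L) :
    pair (conjClosure z (P : Subgroup G)) g ≤ conjClosure z (P : Subgroup G) ⊔ coreIn p L := by
  refine sup_le le_sup_left ?_
  rw [map_conjClosure] at hgL ⊢
  refine (Subgroup.closure_le _).2 fun y hy => ?_
  exact mem_sup_coreIn hpairs P hz hzc hL hWL T hWT TL hTL hy.1 (hgL (mem_conjClosure hy.1 hy.2))

omit hz hzc in
/-- A pair of conjugates lies in a `p`-solvable subgroup. -/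
theorem isPSolvable_sup_map (T : Sylow p G) (hWT : conjClosure z (P : Subgroup G) ≤ T) (g : G) :
    Cfsg.IsPSolvable p ↥((T : Subgroup G) ⊔
      (conjClosure z (P : Subgroup G)).map (MulAut.conj g).toMonoidHom) :=
  isPSolvable_of_le (sup_le_sup_left (Subgroup.map_mono hWT) _) (hpairs T (g • T))

/-- The pairs split. -/
theorem pairSplit_conjClosure : PairSplit (conjClosure z (P : Subgroup G)) p := by
  intro g
  set L := pair (conjClosure z (P : Subgroup G)) g
  have hWL : conjClosure z (P : Subgroup G) ≤ L := le_pair g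
  have hL : Cfsg.IsPSolvable p ↥L := isPSolvable_of_le (sup_le_sup_right (conjClosure_le z _) _)
    (isPSolvable_sup_map hpairs P P (conjClosure_le z _) g)
  obtain ⟨TL, T, hWT, hTL⟩ := exists_sylow_over P hWL
  exact ⟨coreIn p L, coreIn_le L, le_normalizer_coreIn L, not_dvd_card_coreIn L,
    le_antisymm (sup_le hWL (coreIn_le L))
      (pair_le_sup_coreIn hpairs P hz hzc hL hWL T hWT TL hTL le_sup_right)⟩

/-- The local hypothesis, when proper subgroups are `p`-solvable. -/
theorem localHyp_conjClosure (hsub : ∀ K : Subgroup G, K ≠ ⊤ → Cfsg.IsPSolvable p ↥K) :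
    LocalHyp (conjClosure z (P : Subgroup G)) p := by
  intro M hWM hMtop
  refine ⟨coreIn p M, coreIn_le M, le_normalizer_coreIn M, not_dvd_card_coreIn M,
    fun g r hr ho hrM => ?_⟩
  set W := conjClosure z (P : Subgroup G) with hWdef
  obtain ⟨TM, T, hWT, hTM⟩ := exists_sylow_over P hWM
  set X := (T : Subgroup G) ⊔ W.map (MulAut.conj g).toMonoidHom
  have hX : Cfsg.IsPSolvable p ↥X := isPSolvable_sup_map hpairs P T hWT g
  have hTX : (T : Subgroup G) ≤ X := le_sup_left
  have hle : pair W g ≤ W ⊔ coreIn p X :=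
    pair_le_sup_coreIn hpairs P hz hzc hX (hWT.trans hTX) T hWT (T.subtype hTX)
      (by rw [Sylow.coe_subtype, Subgroup.subgroupOf_map_subtype]; exact inf_le_left) le_sup_right
  have hWN : W ≤ Subgroup.normalizer (coreIn p X : Set G) :=
    (hWT.trans hTX).trans (le_normalizer_coreIn X)
  have hWp : IsPGroup p W := P.2.to_le (conjClosure_le z _)
  have hrX : r ∈ coreIn p X := by
    obtain ⟨w, hw, o, hoX, rfl⟩ := CfsgLib.Coprime.exists_mul_of_mem_sup hWN (hle hr)
    rw [eq_one_of_regular hWp (inf_eq_bot_of_not_dvd hWp (not_dvd_card_coreIn X)) hw (hWN hw)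
      hoX ho, one_mul]
    exact hoX
  refine le_coreIn_of_invariant (hsub M hMtop) TM (R := M ⊓ coreIn p X) inf_le_left
    (fun hd => not_dvd_card_coreIn (p := p) X (hd.trans (Subgroup.card_dvd_of_le inf_le_right)))
    (fun t ht => CfsgLib.Coprime.mem_normalizer_of_forall_conj fun a ha =>
      ⟨M.mul_mem (M.mul_mem (Subgroup.map_subtype_le _ ht) ha.1)
        (M.inv_mem (Subgroup.map_subtype_le _ ht)),
        (Subgroup.mem_normalizer_iff.1 (le_normalizer_coreIn X (hTX (hTM ht))) a).1 ha.2⟩)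
    ⟨hrM, hrX⟩

end

/-- A nonabelian simple group has no nontrivial linear character. -/
theorem linker_eq_self [Fintype G] [IsSimpleGroup G] (hG : ¬ IsMulCommutative G)
    {M : Ideal AlgInt} (H : Subgroup G) : linker M H = H := by
  refine le_antisymm linker_le fun x hx => ⟨hx, fun χ hχ => ?_⟩
  obtain ⟨f, hf⟩ := CfsgLib.LinearExt.exists_unitsHom (irr_isCharacter χ) (mem_linset.1 hχ).2
  rcases f.normal_ker.eq_bot_or_eq_top with h | h
  · exact absurd ⟨⟨fun a b => (MonoidHom.ker_eq_bot_iff f).1 h (by rw [map_mul, map_mul, mul_comm])⟩⟩ hG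
  · rw [hf]
    simp only [show f x = 1 from MonoidHom.mem_ker.1 (h ▸ Subgroup.mem_top x), Units.val_one]

/-- In exponent two, an element alone in its class leaves no third element. -/
theorem false_of_singleton_two [Fintype G] [IsSimpleGroup G] (hG : ¬ IsMulCommutative G)
    {H : Subgroup G} {M : Ideal AlgInt} (hH : IsPGroup p H) (hab : IsMulCommutative H)
    (hsp : PairSplit H p) (hM : IsPModular p M) (hloc : LocalHyp H p)
    (hZ : ∀ t ∈ H, t ≠ 1 → Subgroup.centralizer ({t} : Set G) ≠ ⊤)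
    (htop : Subgroup.normalClosure (H : Set G) = ⊤) {s : G} (hs : s ∈ H) (hs1 : s ≠ 1)
    (hsq : s * s = 1) (huniq : ∀ g : G, g * s * g⁻¹ ∈ H → g * s * g⁻¹ = s) {t : G} (ht : t ∈ H)
    (ht1 : t ≠ 1) (hts : t ≠ s) : False := by
  classical
  have hvan : ∀ χ ∈ bset M G, χ ∉ linset M G → (χ : G → ℂ) t = 0 := by
    intro χ hχ hnl
    set φ := (χ : G → ℂ) s / (χ : G → ℂ) 1 with hφ
    have hts1 : t * s ≠ 1 := fun e => hts (mul_right_cancel (e.trans hsq.symm))
    have h1 := apply_mul_singleton hH hab hsp hM hloc hZ hs huniq hχ ht hts1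
    have h2 := apply_mul_singleton hH hab hsp hM hloc hZ hs huniq hχ (H.mul_mem ht hs)
      (by rw [mul_assoc, hsq, mul_one]; exact ht1)
    rw [mul_assoc, hsq, mul_one, h1, ← hφ, ← mul_assoc] at h2
    by_contra h0
    have h3 : φ * φ = 1 := (mul_eq_right₀ h0).1 h2.symm
    have hn : ‖φ‖ = 1 := by
      have h4 := congrArg norm h3
      rw [norm_mul, norm_one] at h4
      nlinarith [norm_nonneg φ]
    refine hnl (mem_linset.2 ⟨hχ, linear_of_norm_eq hH hab hsp hM hloc hZ htop hχ hs hs1 ?_⟩)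
    rwa [hφ, norm_div, div_eq_one_iff_eq (norm_ne_zero_iff.2 (irr_one_ne_zero χ))] at hn
  have hb := bnorm_eq_card_linset hvan
  have hlow := card_le_bnorm hM (exists_pow_of_mem hH ht) hH fun v hv =>
    Subgroup.mem_centralizer_singleton_iff.2 (commute_of_mem hab hv ht).eq
  rw [hb] at hlow
  have h1 : Nat.card H ≤ (linset M G).card := by exact_mod_cast hlow
  have h2 := card_linset_mul_le (M := M) htop
  rw [linker_eq_self hG] at h2
  have h3 : 1 < Nat.card H := by
    rw [Finite.one_lt_card_iff_nontrivial, Subgroup.nontrivial_iff_ne_bot]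
    exact fun e => hs1 (Subgroup.mem_bot.1 (e ▸ hs))
  have h4 : (linset M G).card ≤ 1 :=
    Nat.le_of_mul_le_mul_right (by rwa [one_mul]) Nat.card_pos
  omega

/-- The simple case. -/
theorem false_of_simple [IsSimpleGroup G] (hG : ¬ IsMulCommutative G) (hdvd : p ∣ Nat.card G)
    (hpairs : SylowPairs p G) (hsub : ∀ K : Subgroup G, K ≠ ⊤ → Cfsg.IsPSolvable p ↥K) :
    False := by
  classical
  letI := Fintype.ofFinite G
  have hO : Cfsg.pPrimeCore p G = ⊥ := by
    rcases (Cfsg.pPrimeCore_normal p G).eq_bot_or_eq_top with h | h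
    · exact h
    · exfalso
      have := CfsgLib.PCore.not_dvd_card_pPrimeCore (p := p) (G := G)
      rw [h, Subgroup.card_top] at this
      exact this hdvd
  obtain ⟨P⟩ := (inferInstance : Nonempty (Sylow p G))
  haveI : Nontrivial ↥(P : Subgroup G) := (Subgroup.nontrivial_iff_ne_bot _).2 fun e =>
    P.not_dvd_index (by
      have := (P : Subgroup G).card_mul_index
      rw [e, Subgroup.card_bot, one_mul] at this
      rw [e, this]; exact hdvd)
  haveI := P.2.center_nontrivial
  obtain ⟨z₀, hz₀⟩ := exists_prime_orderOf_dvd_card'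
    (G := ↥(Subgroup.center ↥(P : Subgroup G))) p (by
      obtain ⟨k, hk⟩ := (P.2.to_subgroup (Subgroup.center _)).exists_card_eq
      rw [hk]
      refine dvd_pow_self p fun h => ?_
      rw [h, pow_zero] at hk
      exact absurd hk Finite.one_lt_card.ne')
  set z : G := ((z₀ : ↥(P : Subgroup G)) : G) with hzdef
  have hz : z ∈ (P : Subgroup G) := (z₀ : ↥(P : Subgroup G)).2
  have hzo : orderOf z = p := by rw [hzdef, Subgroup.orderOf_coe, Subgroup.orderOf_coe, hz₀]
  have hz1 : z ≠ 1 := fun e => hp.out.ne_one (by rw [← hzo, e, orderOf_one])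
  have hzc : ∀ s ∈ (P : Subgroup G), Commute s z := fun s hs =>
    congrArg Subtype.val (Subgroup.mem_center_iff.1 z₀.2 ⟨s, hs⟩)
  set W := conjClosure z (P : Subgroup G) with hWdef
  have hzW : z ∈ W := mem_conjClosure (IsConj.refl z) hz
  have hWp : IsPGroup p W := P.2.to_le (conjClosure_le z _)
  have hab : IsMulCommutative W := isMulCommutative_conjClosure hpairs P hz hzc P
  have hsp := pairSplit_conjClosure hpairs P hz hzc
  have hloc := localHyp_conjClosure hpairs P hz hzc hsub
  have hW1 : W ≠ ⊥ := fun e => hz1 (Subgroup.mem_bot.1 (e ▸ hzW))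
  have hcomm : ∀ t : G, t ≠ 1 → t ∈ Subgroup.center G → False := fun t ht1 htc => by
    rcases (inferInstance : (Subgroup.center G).Normal).eq_bot_or_eq_top with h | h
    · exact ht1 (Subgroup.mem_bot.1 (h ▸ htc))
    · exact hG ⟨⟨fun a b => (Subgroup.mem_center_iff.1 (h ▸ Subgroup.mem_top b) a)⟩⟩
  have hZ : ∀ t ∈ W, t ≠ 1 → Subgroup.centralizer ({t} : Set G) ≠ ⊤ := fun t _ ht1 e =>
    hcomm t ht1 (Subgroup.mem_center_iff.2 fun g =>
      Subgroup.mem_centralizer_singleton_iff.1 (by rw [e]; trivial))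
  have htop : Subgroup.normalClosure (W : Set G) = ⊤ :=
    (Subgroup.normalClosure_normal : (Subgroup.normalClosure (W : Set G)).Normal).eq_bot_or_eq_top
      |>.resolve_left fun e => hW1 (le_bot_iff.1 (e ▸ Subgroup.le_normalClosure))
  obtain ⟨M, hM⟩ := CfsgLib.Blocks.exists_isPModular (p := p)
  have key := eq_top_of_core hWp hab hsp hM hloc hZ ?_ htop hW1
  · exact hG ⟨⟨fun a b => (commute_of_mem hab (key ▸ Subgroup.mem_top a)
      (key ▸ Subgroup.mem_top b)).eq⟩⟩
  intro s hs hs1 huniq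
  by_cases hp2 : p ≠ 2
  · exact eq_top_of_singleton hp2 hWp hab hsp hM hloc hZ htop hO hs hs1 huniq
  exfalso
  rw [not_not] at hp2
  subst hp2
  have hsq : s * s = 1 := by
    rw [← pow_two]
    exact pow_eq_one_of_mem_conjClosure hpairs P hz hzc (by rw [← hzo]; exact pow_orderOf_eq_one z) P hs
  by_cases h3 : ∃ t ∈ W, t ≠ 1 ∧ t ≠ s
  · obtain ⟨t, ht, ht1, hts⟩ := h3
    exact false_of_singleton_two hG hWp hab hsp hM hloc hZ htop hs hs1 hsq huniq ht ht1 hts
  push Not at h3
  have hsz : z = s := h3 z hzW hz1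
  -- `z` is isolated
  have hiso : IsIsolatedInvolution z := by
    refine ⟨hzo, fun g hc => ?_⟩
    have hc2 : (g * z * g⁻¹) ^ 2 = 1 := by
      rw [conj_pow, ← hzo, pow_orderOf_eq_one, mul_one, mul_inv_cancel]
    set U := Subgroup.closure ({z, g * z * g⁻¹} : Set G) with hU
    have hUab : IsMulCommutative U := Subgroup.isMulCommutative_closure (by
      rintro a (rfl | rfl) b (rfl | rfl)
      · rfl
      · exact hc.eq
      · exact hc.symm.eq
      · rfl)
    have hUp : IsPGroup 2 U := by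
      intro u
      refine ⟨1, Subtype.ext ?_⟩
      rw [pow_one, Subgroup.coe_pow, Subgroup.coe_one]
      obtain ⟨u, hu⟩ := u
      show u ^ 2 = 1
      induction hu using Subgroup.closure_induction with
      | mem x hx =>
        rcases hx with rfl | rfl
        · rw [← hzo, pow_orderOf_eq_one]
        · exact hc2
      | one => exact one_pow 2
      | mul x y hx hy ihx ihy => rw [(commute_of_mem hUab hx hy).mul_pow, ihx, ihy, one_mul]
      | inv x _ ih => rw [inv_pow, ih, inv_one]
    obtain ⟨T, hT⟩ := hUp.exists_le_sylow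
    have hWT : W ≤ (T : Subgroup G) := fun w hw => by
      rcases eq_or_ne w 1 with rfl | hw1
      · exact one_mem _
      · rw [h3 w hw hw1, ← hsz]
        exact hT (Subgroup.subset_closure (by simp))
    have hmem : g * z * g⁻¹ ∈ W := (conjClosure_eq_of_le P T hWT).le <|
      mem_conjClosure (isConj_iff.2 ⟨g, rfl⟩) (hT (Subgroup.subset_closure (by simp)))
    rw [h3 _ hmem (fun e => hz1 (conj_eq_one_iff.1 e)), hsz]
  have hstar := CfsgLib.Involutions.zstar G z hiso
  refine hcomm z hz1 (Subgroup.mem_center_iff.2 fun g => ?_)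
  have h := hstar g
  rw [hO, Subgroup.mem_bot, mul_inv_eq_one, mul_inv_eq_iff_eq_mul] at h
  exact h

theorem sylowPairs_subgroup (h : SylowPairs p G) (K : Subgroup G) : SylowPairs p ↥K := by
  intro S T
  obtain ⟨S', hS⟩ := (S.2.map K.subtype).exists_le_sylow
  obtain ⟨T', hT⟩ := (T.2.map K.subtype).exists_le_sylow
  refine CfsgLib.PCore.isPSolvable_of_equiv
    (((S : Subgroup ↥K) ⊔ (T : Subgroup ↥K)).equivMapOfInjective K.subtype K.subtype_injective).symm
    (isPSolvable_of_le ?_ (h S' T'))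
  rw [Subgroup.map_sup]
  exact sup_le_sup hS hT

theorem sylowPairs_quotient (h : SylowPairs p G) (N : Subgroup G) [N.Normal] :
    SylowPairs p (G ⧸ N) := by
  intro S T
  have hf := QuotientGroup.mk'_surjective N
  have key : ∀ S : Sylow p (G ⧸ N), ∃ S' : Sylow p G,
      (S' : Subgroup G).map (QuotientGroup.mk' N) = (S : Subgroup (G ⧸ N)) := by
    intro S
    obtain ⟨S', hS'⟩ := Sylow.mapSurjective_surjective hf p S
    exact ⟨S', by rw [← hS', Sylow.coe_mapSurjective]⟩
  obtain ⟨S', hS⟩ := key S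
  obtain ⟨T', hT⟩ := key T
  rw [← hS, ← hT, ← Subgroup.map_sup]
  exact CfsgLib.PCore.isPSolvable_of_surjective ((QuotientGroup.mk' N).subgroupMap _)
    ((QuotientGroup.mk' N).subgroupMap_surjective _) (h S' T')

/-- A finite group is `p`-solvable if any two Sylow subgroups generate a `p`-solvable subgroup. -/
theorem isPSolvable_of_sylowPairs : ∀ (G : Type u) [Group G] [Finite G],
    SylowPairs p G → Cfsg.IsPSolvable p G := by
  suffices h : ∀ (n : ℕ) (G : Type u) [Group G] [Finite G], Nat.card G = n →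
      SylowPairs p G → Cfsg.IsPSolvable p G from fun G _ _ h' => h _ G rfl h'
  intro n
  induction n using Nat.strong_induction_on with
  | _ n ih =>
    intro G _ _ hn hpairs
    have hsub : ∀ K : Subgroup G, K ≠ ⊤ → Cfsg.IsPSolvable p ↥K := fun K hK =>
      ih _ (hn ▸ lt_of_le_of_ne (Subgroup.card_le_card_group _) (fun e =>
        hK (Subgroup.eq_top_of_card_eq _ e))) ↥K rfl (sylowPairs_subgroup hpairs K)
    by_cases hdvd : p ∣ Nat.card G
    swap
    · exact CfsgLib.PCore.isPSolvable_of_coprime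
        ((Nat.Prime.coprime_iff_not_dvd hp.out).2 hdvd).symm
    by_cases hnorm : ∃ N : Subgroup G, N.Normal ∧ N ≠ ⊥ ∧ N ≠ ⊤
    · obtain ⟨N, hN, hN1, hN2⟩ := hnorm
      refine CfsgLib.PCore.isPSolvable_extension N (hsub N hN2)
        (ih _ ?_ (G ⧸ N) rfl (sylowPairs_quotient hpairs N))
      rw [← hn, N.card_eq_card_quotient_mul_card_subgroup]
      exact lt_mul_of_one_lt_right Nat.card_pos (by
        rwa [Finite.one_lt_card_iff_nontrivial, Subgroup.nontrivial_iff_ne_bot])
    push Not at hnorm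
    haveI : Nontrivial G := Finite.one_lt_card_iff_nontrivial.1
      (lt_of_lt_of_le hp.out.one_lt (Nat.le_of_dvd Nat.card_pos hdvd))
    haveI : IsSimpleGroup G := ⟨fun N hN => (em (N = ⊥)).imp id (hnorm N hN)⟩
    by_cases hG : IsMulCommutative G
    · haveI := hG
      haveI : Group.IsSolvable G := Group.isSolvable_of_comm fun a b => mul_comm' a b
      exact CfsgLib.PCore.isPSolvable_of_isSolvable
    · exact (false_of_simple hG hdvd hpairs hsub).elim

end CfsgLib.ExtClosed
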