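import Mathlib
import Cfsg.Prelude.Def_SubgroupEmbedding
import Cfsg.Agent.Lib.Coprime.Action
import Cfsg.Agent.Lib.PLocal.Constraint
import Cfsg.Agent.Lib.Blocks.PPart
import Cfsg.Agent.S3020

/-!
An abelian `p`-subgroup `H` with split pairs: for every `g` the subgroup generated by `H` and
`g H g⁻¹` is `R ⋊ H` with `R` of order prime to `p`; so it is when `H` is extremely closed, and
then `C_R(H) = 1`.  An element `y` of such a
subgroup has a projection in `H`, the unique `h ∈ H` with `h⁻¹ * y` of order prime to `p`.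
-/

set_option autoImplicit false

namespace CfsgLib.ExtClosed

universe u

variable {G : Type u} [Group G] {H : Subgroup G} {p : ℕ}

/-- The subgroup generated by `H` and one conjugate. -/
def pair (H : Subgroup G) (g : G) : Subgroup G := H ⊔ H.map (MulAut.conj g).toMonoidHom

theorem le_pair (g : G) : H ≤ pair H g := le_sup_left

theorem conj_mem_pair (g : G) {x : G} (hx : x ∈ H) : g * x * g⁻¹ ∈ pair H g :=
  Subgroup.mem_sup_right ⟨x, hx, rfl⟩

theorem map_pair {L : Type u} [Group L] (f : G →* L) (g : G) :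
    (pair H g).map f = pair (H.map f) (f g) := by
  rw [pair, pair, Subgroup.map_sup, Subgroup.map_map, Subgroup.map_map]
  congr 2
  ext x
  simp [map_mul, map_inv]

theorem commute_of_mem (hab : IsMulCommutative H) {a b : G} (ha : a ∈ H) (hb : b ∈ H) :
    Commute a b :=
  congrArg Subtype.val (hab.is_comm.comm ⟨a, ha⟩ ⟨b, hb⟩)

theorem not_dvd_orderOf_conj {x : G} (h : ¬ p ∣ orderOf x) (c : G) :
    ¬ p ∣ orderOf (c * x * c⁻¹) := by
  rwa [show c * x * c⁻¹ = MulAut.conj c x from rfl, MulEquiv.orderOf_eq]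

variable [Finite G] [Fact p.Prime]

theorem not_dvd_orderOf_of_mem {R : Subgroup G} (hR : ¬ p ∣ Nat.card R) {r : G} (hr : r ∈ R) :
    ¬ p ∣ orderOf r :=
  fun h => hR (h.trans (Subgroup.orderOf_dvd_natCard R hr))

theorem coprime_of_not_dvd {R : Subgroup G} (hH : IsPGroup p H) (hR : ¬ p ∣ Nat.card R) :
    (Nat.card H).Coprime (Nat.card R) := by
  obtain ⟨k, hk⟩ := hH.exists_card_eq
  rw [hk]
  exact ((Fact.out : p.Prime).coprime_iff_not_dvd.2 hR).pow_left k

omit [Finite G] [Fact p.Prime] in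
theorem exists_pow_coset {R : Subgroup G} {t r : G} (ht : t ∈ Subgroup.normalizer (R : Set G))
    (hr : r ∈ R) (n : ℕ) : ∃ r' ∈ R, (t * r) ^ n = t ^ n * r' := by
  induction n with
  | zero => exact ⟨1, R.one_mem, by simp⟩
  | succ n ih =>
    obtain ⟨r', hr', e⟩ := ih
    refine ⟨(t⁻¹ * r' * t) * r, R.mul_mem ?_ hr, ?_⟩
    · exact ((Subgroup.mem_normalizer_iff'').1 ht r').1 hr'
    · rw [pow_succ, e, pow_succ]; group

/-- A `p`-regular element of `t R` forces `t = 1`. -/
theorem eq_one_of_regular {R : Subgroup G} (hH : IsPGroup p H) (hdis : H ⊓ R = ⊥) {t r : G}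
    (ht : t ∈ H) (htN : t ∈ Subgroup.normalizer (R : Set G)) (hr : r ∈ R)
    (ho : ¬ p ∣ orderOf (t * r)) : t = 1 := by
  obtain ⟨r', hr', e⟩ := exists_pow_coset htN hr (orderOf (t * r))
  rw [pow_orderOf_eq_one] at e
  have h1 : t ^ orderOf (t * r) ∈ H ⊓ R :=
    ⟨H.pow_mem ht _, by rw [eq_inv_of_mul_eq_one_left e.symm]; exact R.inv_mem hr'⟩
  rw [hdis, Subgroup.mem_bot] at h1
  obtain ⟨k, hk⟩ := hH ⟨t, ht⟩
  have hk' : t ^ p ^ k = 1 := congrArg Subtype.val hk
  exact orderOf_eq_one_iff.1 (Nat.eq_one_of_dvd_coprimes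
    (((Fact.out : p.Prime).coprime_iff_not_dvd.2 ho).symm.pow_right k).symm
    (orderOf_dvd_of_pow_eq_one hk') (orderOf_dvd_of_pow_eq_one h1))

theorem inf_eq_bot_of_not_dvd {R : Subgroup G} (hH : IsPGroup p H) (hR : ¬ p ∣ Nat.card R) :
    H ⊓ R = ⊥ :=
  Subgroup.inf_eq_bot_of_coprime (coprime_of_not_dvd hH hR)

/-- Every element of `t R` is `R`-conjugate to an element of `t C_R(t)`. -/
theorem exists_conj_coset {R : Subgroup G} (hR : ¬ p ∣ Nat.card R) {t : G}
    (htp : ∃ k : ℕ, orderOf t = p ^ k) (ht : t ∈ Subgroup.normalizer (R : Set G)) {r : G}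
    (hr : r ∈ R) :
    ∃ x ∈ R, ∃ c ∈ R, Commute t c ∧ t * r = x * (t * c) * x⁻¹ := by
  classical
  set C : Subgroup R := (Subgroup.centralizer ({t} : Set G)).subgroupOf R with hC
  have hcomm : ∀ c : C, Commute t ((c : R) : G) := fun c =>
    (Subgroup.mem_centralizer_singleton_iff.1 c.2).symm
  have hmem : ∀ (x : G), x ∈ R → ∀ c ∈ R, t⁻¹ * (x * (t * c) * x⁻¹) ∈ R := by
    intro x hx c hc
    rw [show t⁻¹ * (x * (t * c) * x⁻¹) = (t⁻¹ * x * t) * c * x⁻¹ by group]
    exact R.mul_mem (R.mul_mem (((Subgroup.mem_normalizer_iff'').1 ht x).1 hx) hc) (R.inv_mem hx)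
  let f : (R ⧸ C) × C → R := fun qc =>
    ⟨t⁻¹ * ((qc.1.out : G) * (t * ((qc.2 : R) : G)) * (qc.1.out : G)⁻¹),
      hmem _ qc.1.out.2 _ (qc.2 : R).2⟩
  have hinj : Function.Injective f := by
    rintro ⟨q, c⟩ ⟨q', c'⟩ h
    have h' : (q.out : G) * (t * ((c : R) : G)) * (q.out : G)⁻¹ =
        (q'.out : G) * (t * ((c' : R) : G)) * (q'.out : G)⁻¹ :=
      mul_left_cancel (a := t⁻¹) (congrArg Subtype.val h)
    have hp : ∀ (q : R ⧸ C) (c : C),
        Cfsg.IsPPart p ((q.out : G) * (t * ((c : R) : G)) * (q.out : G)⁻¹)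
          ((q.out : G) * t * (q.out : G)⁻¹) := fun q c =>
      CfsgLib.Blocks.IsPPart.conj
        (CfsgLib.Blocks.isPPart_mul (hcomm c) htp (not_dvd_orderOf_of_mem hR (c : R).2)) _
    have e := CfsgLib.Blocks.IsPPart.unique (Fact.out : p.Prime) (h' ▸ hp q c) (hp q' c')
    have hx : (q.out)⁻¹ * q'.out ∈ C := by
      show (q.out)⁻¹ * q'.out ∈ (Subgroup.centralizer ({t} : Set G)).subgroupOf R
      rw [Subgroup.mem_subgroupOf, Subgroup.coe_mul, Subgroup.coe_inv,
        Subgroup.mem_centralizer_singleton_iff]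
      calc ((q.out : G))⁻¹ * (q'.out : G) * t
          = ((q.out : G))⁻¹ * ((q'.out : G) * t * (q'.out : G)⁻¹) * (q'.out : G) := by group
        _ = ((q.out : G))⁻¹ * ((q.out : G) * t * (q.out : G)⁻¹) * (q'.out : G) := by rw [e]
        _ = t * (((q.out : G))⁻¹ * (q'.out : G)) := by group
    have hq : q = q' := by
      rw [← QuotientGroup.out_eq' q, ← QuotientGroup.out_eq' q', QuotientGroup.eq]
      exact hx
    subst hq
    simp only [mul_right_cancel_iff, mul_left_cancel_iff] at h'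
    exact Prod.ext rfl (Subtype.ext (Subtype.ext h'))
  have hbij : Function.Bijective f := (Nat.bijective_iff_injective_and_card f).2 ⟨hinj, by
    rw [Nat.card_prod, ← Subgroup.card_eq_card_quotient_mul_card_subgroup C]⟩
  obtain ⟨⟨q, c⟩, hqc⟩ := hbij.2 ⟨r, hr⟩
  refine ⟨_, q.out.2, _, (c : R).2, hcomm c, ?_⟩
  rw [show r = t⁻¹ * ((q.out : G) * (t * ((c : R) : G)) * (q.out : G)⁻¹) from
    (congrArg Subtype.val hqc).symm]
  group

/-- Every pair subgroup is `R ⋊ H` with `R` of order prime to `p`. -/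
def PairSplit (H : Subgroup G) (p : ℕ) : Prop :=
  ∀ g : G, ∃ R : Subgroup G, R ≤ pair H g ∧ pair H g ≤ Subgroup.normalizer (R : Set G) ∧
    ¬ p ∣ Nat.card R ∧ H ⊔ R = pair H g

/-- The pair subgroups of an extremely closed abelian `p`-subgroup split. -/
theorem split_of_closed (hH : IsPGroup p H) (hab : IsMulCommutative H)
    (hcl : Cfsg.IsExtremelyClosed H) : PairSplit H p := by
  intro g
  obtain ⟨h1, -⟩ := Cfsg.Agent.S3020.result H hH hab hcl g (pair H g) rfl
  refine ⟨_, Subgroup.map_subtype_le _, ?_, ?_, h1⟩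
  · refine (Subgroup.normal_subgroupOf_iff_le_normalizer (Subgroup.map_subtype_le _)).1 ?_
    rw [Subgroup.subgroupOf, Subgroup.comap_map_eq_self_of_injective (pair H g).subtype_injective]
    exact Cfsg.pPrimeCore_normal p _
  · rw [Subgroup.card_subtype]
    exact CfsgLib.PCore.not_dvd_card_pPrimeCore

section

variable (hH : IsPGroup p H) (hab : IsMulCommutative H) (hsp : PairSplit H p)

include hH hab hsp

/-- The normal complement of `H` in a pair subgroup. -/
theorem exists_compl (g : G) :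
    ∃ R : Subgroup G, R ≤ pair H g ∧ pair H g ≤ Subgroup.normalizer (R : Set G) ∧
      ¬ p ∣ Nat.card R ∧ H ⊓ R = ⊥ ∧ H ⊔ R = pair H g := by
  obtain ⟨R, h1, h2, h3, h4⟩ := hsp g
  exact ⟨R, h1, h2, h3, inf_eq_bot_of_not_dvd hH h3, h4⟩

/-- A chosen complement. -/
noncomputable def compl (g : G) : Subgroup G := (exists_compl hH hab hsp g).choose

theorem compl_le (g : G) : compl hH hab hsp g ≤ pair H g :=
  (exists_compl hH hab hsp g).choose_spec.1

theorem pair_le_normalizer (g : G) :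
    pair H g ≤ Subgroup.normalizer (compl hH hab hsp g : Set G) :=
  (exists_compl hH hab hsp g).choose_spec.2.1

theorem compl_not_dvd (g : G) : ¬ p ∣ Nat.card (compl hH hab hsp g) :=
  (exists_compl hH hab hsp g).choose_spec.2.2.1

theorem compl_inf (g : G) : H ⊓ compl hH hab hsp g = ⊥ :=
  (exists_compl hH hab hsp g).choose_spec.2.2.2.1

theorem compl_sup (g : G) : H ⊔ compl hH hab hsp g = pair H g :=
  (exists_compl hH hab hsp g).choose_spec.2.2.2.2

theorem compl_fixed (hcl : Cfsg.IsExtremelyClosed H) (g : G) {r : G}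
    (hr : r ∈ compl hH hab hsp g) (hc : ∀ h ∈ H, h * r = r * h) : r = 1 := by
  have h4 : r ∈ H := (hcl g).le ⟨compl_le hH hab hsp g hr,
    CfsgLib.Coprime.mem_normalizer_of_forall_conj fun x hx => by
      rwa [← hc x hx, mul_inv_cancel_right]⟩
  have h5 : r ∈ H ⊓ compl hH hab hsp g := ⟨h4, hr⟩
  rw [compl_inf hH hab hsp g, Subgroup.mem_bot] at h5
  exact h5

theorem le_normalizer_compl (g : G) : H ≤ Subgroup.normalizer (compl hH hab hsp g : Set G) :=
  (le_pair g).trans (pair_le_normalizer hH hab hsp g)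

theorem exists_decomp {g y : G} (hy : y ∈ pair H g) :
    ∃ h ∈ H, ∃ r ∈ compl hH hab hsp g, y = h * r := by
  rw [← compl_sup hH hab hsp g] at hy
  exact CfsgLib.Coprime.exists_mul_of_mem_sup (le_normalizer_compl hH hab hsp g) hy

/-- An element of a pair subgroup of order prime to `p` lies in the complement. -/
theorem mem_compl_of_regular {g r : G} (hr : r ∈ pair H g) (ho : ¬ p ∣ orderOf r) :
    r ∈ compl hH hab hsp g := by
  obtain ⟨t, ht, s, hs, rfl⟩ := exists_decomp hH hab hsp hr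
  rw [eq_one_of_regular hH (compl_inf hH hab hsp g) ht (le_normalizer_compl hH hab hsp g ht) hs ho,
    one_mul]
  exact hs

theorem proj_unique {g y h₁ h₂ : G} (hy : y ∈ pair H g) (m₁ : h₁ ∈ H) (m₂ : h₂ ∈ H)
    (o₁ : ¬ p ∣ orderOf (h₁⁻¹ * y)) (o₂ : ¬ p ∣ orderOf (h₂⁻¹ * y)) : h₁ = h₂ := by
  obtain ⟨h, hh, r, hr, rfl⟩ := exists_decomp hH hab hsp hy
  rw [← mul_assoc] at o₁ o₂
  have hN := le_normalizer_compl hH hab hsp g
  have e₁ := eq_one_of_regular hH (compl_inf hH hab hsp g) (H.mul_mem (H.inv_mem m₁) hh)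
    (hN (H.mul_mem (H.inv_mem m₁) hh)) hr o₁
  have e₂ := eq_one_of_regular hH (compl_inf hH hab hsp g) (H.mul_mem (H.inv_mem m₂) hh)
    (hN (H.mul_mem (H.inv_mem m₂) hh)) hr o₂
  rw [inv_mul_eq_one] at e₁ e₂
  rw [e₁, e₂]

omit hH hab hsp in
open scoped Classical in
/-- The projection to `H`. -/
noncomputable def proj (H : Subgroup G) (p : ℕ) (y : G) : G :=
  if h : ∃ x ∈ H, ¬ p ∣ orderOf (x⁻¹ * y) then h.choose else 1

omit [Finite G] hH hab hsp in
theorem proj_mem (y : G) : proj H p y ∈ H := by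
  unfold proj
  split_ifs with h
  · exact h.choose_spec.1
  · exact H.one_mem

theorem proj_regular {g y : G} (hy : y ∈ pair H g) : ¬ p ∣ orderOf ((proj H p y)⁻¹ * y) := by
  obtain ⟨h, hh, r, hr, rfl⟩ := exists_decomp hH hab hsp hy
  have hex : ∃ x ∈ H, ¬ p ∣ orderOf (x⁻¹ * (h * r)) :=
    ⟨h, hh, by rw [inv_mul_cancel_left]; exact not_dvd_orderOf_of_mem (compl_not_dvd hH hab hsp g) hr⟩
  unfold proj
  rw [dif_pos hex]
  exact hex.choose_spec.2

theorem proj_eq {g y h : G} (hy : y ∈ pair H g) (hh : h ∈ H) (ho : ¬ p ∣ orderOf (h⁻¹ * y)) :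
    proj H p y = h :=
  proj_unique hH hab hsp hy (proj_mem y) hh (proj_regular hH hab hsp hy) ho

theorem proj_decomp {g y : G} (hy : y ∈ pair H g) :
    (proj H p y)⁻¹ * y ∈ compl hH hab hsp g := by
  obtain ⟨h, hh, r, hr, rfl⟩ := exists_decomp hH hab hsp hy
  have := proj_eq hH hab hsp hy hh
    (by rw [inv_mul_cancel_left]; exact not_dvd_orderOf_of_mem (compl_not_dvd hH hab hsp g) hr)
  rwa [this, inv_mul_cancel_left]

theorem proj_self {h : G} (hh : h ∈ H) : proj H p h = h :=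
  proj_eq hH hab hsp (le_pair 1 hh) hh
    (by rw [inv_mul_cancel, orderOf_one]; exact (Fact.out : p.Prime).not_dvd_one)

/-- The conjugating element may be taken in the complement. -/
theorem exists_factor (g : G) :
    ∃ o ∈ compl hH hab hsp g, o⁻¹ * g ∈ Subgroup.normalizer (H : Set G) := by
  have hcop := coprime_of_not_dvd hH (compl_not_dvd hH hab hsp g)
  obtain ⟨x, hx, hle⟩ := CfsgLib.Coprime.exists_conj_le_of_coprime H (compl hH hab hsp g)
    (le_normalizer_compl hH hab hsp g) hcop (H.map (MulAut.conj g).toMonoidHom)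
    (by rw [compl_sup hH hab hsp g]; exact le_sup_right)
    (by rw [Subgroup.card_map_of_injective (MulAut.conj g).injective]; exact hcop)
    (Or.inl (by
      haveI := hab
      have hm : IsMulCommutative (H.map (MulAut.conj g).toMonoidHom) :=
        Subgroup.map_isMulCommutative H _
      exact Group.isSolvable_of_comm fun a b => hm.is_comm.comm a b))
  refine ⟨x⁻¹, (compl hH hab hsp g).inv_mem hx, ?_⟩
  rw [inv_inv]
  refine CfsgLib.Coprime.mem_normalizer_of_forall_conj fun h hh => ?_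
  have := CfsgLib.Coprime.conj_smul_le.1 hle (g * h * g⁻¹) ⟨h, hh, rfl⟩
  simpa [mul_assoc] using this

/-- Fusion of elements of `H` is controlled by the normalizer. -/
theorem exists_normalizer_conj {g b : G} (hb : b ∈ H) (hgb : g * b * g⁻¹ ∈ H) :
    ∃ n ∈ Subgroup.normalizer (H : Set G), n * b * n⁻¹ = g * b * g⁻¹ := by
  obtain ⟨o, ho, hn⟩ := exists_factor hH hab hsp g
  refine ⟨_, hn, ?_⟩
  set R := compl hH hab hsp g
  have hs : o⁻¹ * (g * b * g⁻¹) * o ∈ H := by
    have := (Subgroup.mem_normalizer_iff.1 hn b).1 hb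
    rwa [show o⁻¹ * g * b * (o⁻¹ * g)⁻¹ = o⁻¹ * (g * b * g⁻¹) * o by group] at this
  have h1 : (g * b * g⁻¹)⁻¹ * (o⁻¹ * (g * b * g⁻¹) * o) ∈ H ⊓ R := by
    refine ⟨H.mul_mem (H.inv_mem hgb) hs, ?_⟩
    rw [show (g * b * g⁻¹)⁻¹ * (o⁻¹ * (g * b * g⁻¹) * o) =
      ((g * b * g⁻¹)⁻¹ * o⁻¹ * (g * b * g⁻¹)) * o by group]
    exact R.mul_mem (((Subgroup.mem_normalizer_iff'').1
      (le_normalizer_compl hH hab hsp g hgb) _).1 (R.inv_mem ho)) ho
  rw [compl_inf hH hab hsp g, Subgroup.mem_bot, inv_mul_eq_one] at h1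
  rw [h1]
  group

/-- A conjugate of an element of `H` is conjugate to its projection. -/
theorem isConj_proj {g b : G} (hb : b ∈ H) : IsConj b (proj H p (g * b * g⁻¹)) := by
  set y := g * b * g⁻¹ with hy
  have hyK : y ∈ pair H g := conj_mem_pair g hb
  obtain ⟨o, ho, hn⟩ := exists_factor hH hab hsp g
  set s := o⁻¹ * g * b * (o⁻¹ * g)⁻¹ with hs
  have hsH : s ∈ H := (Subgroup.mem_normalizer_iff.1 hn b).1 hb
  have hys : y = o * s * o⁻¹ := by rw [hy, hs]; group
  have hp : proj H p y = s := by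
    refine proj_eq hH hab hsp hyK hsH (not_dvd_orderOf_of_mem (compl_not_dvd hH hab hsp g) ?_)
    rw [hys, show s⁻¹ * (o * s * o⁻¹) = (s⁻¹ * o * s) * o⁻¹ by group]
    exact mul_mem (((Subgroup.mem_normalizer_iff'').1
      (le_normalizer_compl hH hab hsp g hsH) _).1 ho) (inv_mem ho)
  rw [hp]
  exact isConj_iff.2 ⟨o⁻¹ * g, by rw [hs]⟩

theorem proj_conj_normalizer {g y n : G} (hy : y ∈ pair H g)
    (hn : n ∈ Subgroup.normalizer (H : Set G)) :
    proj H p (n * y * n⁻¹) = n * proj H p y * n⁻¹ := by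
  refine proj_eq hH hab hsp (g := n * g * n⁻¹) ?_
    ((Subgroup.mem_normalizer_iff.1 hn _).1 (proj_mem y)) ?_
  · have : (pair H g).map (MulAut.conj n).toMonoidHom = pair H (n * g * n⁻¹) := by
      have e : H.map (MulAut.conj n).toMonoidHom = H := Subgroup.mem_normalizer_iff_map_conj_eq.1 hn
      rw [map_pair, e]
      rfl
    rw [← this]
    exact ⟨y, hy, rfl⟩
  · rw [show (n * proj H p y * n⁻¹)⁻¹ * (n * y * n⁻¹) = n * ((proj H p y)⁻¹ * y) * n⁻¹ by group]
    exact not_dvd_orderOf_conj (proj_regular hH hab hsp hy) n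

end

end CfsgLib.ExtClosed
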