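import Cfsg.Agent.Lib.ExtClosed.Core
import Cfsg.Agent.Lib.Characters.Extension

/-!
An element of `H` conjugate to no other element of `H` forces `G = H`.
-/

set_option autoImplicit false
set_option linter.style.haveILetI false

namespace CfsgLib.ExtClosed

open Cfsg CfsgLib.Characters CfsgLib.Blocks
open scoped ComplexConjugate

universe u

variable {G : Type u} [Group G] [Fintype G] {p : ℕ} [Fact p.Prime] {H : Subgroup G}
  {M : Ideal AlgInt}

/-- A conjugacy class as a finset. -/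
noncomputable def cls (b : G) : Finset G := by
  classical exact Finset.univ.filter (fun y => IsConj b y)

omit [Fact p.Prime] in
theorem mem_cls {b y : G} : y ∈ cls b ↔ IsConj b y := by classical simp [cls]

omit [Fact p.Prime] in
theorem card_cls_pos (b : G) : 0 < (cls b).card :=
  Finset.card_pos.2 ⟨b, mem_cls.2 (IsConj.refl b)⟩

/-- Class sums act as scalars. -/
theorem sum_cls_value (χ : IrrCharacter G) (a b : G) :
    ∑ y ∈ cls b, (χ : G → ℂ) (a * y) =
      ((cls b).card : ℂ) * ((χ : G → ℂ) b / (χ : G → ℂ) 1) * (χ : G → ℂ) a := by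
  classical
  have hcard : ((cls b).card : ℂ) = ((Subgroup.centralizer ({b} : Set G)).index : ℂ) := by
    rw [← card_isConj_eq_index, Nat.card_eq_fintype_card, Fintype.card_subtype]
    congr 2
  have h := sum_isConj_mul χ b a
  rw [← Finset.sum_filter] at h
  have h2 : ∑ y ∈ cls b, (χ : G → ℂ) (a * y) =
      ∑ y ∈ Finset.univ.filter (fun y => IsConj b y), (χ : G → ℂ) (y * a) := by
    refine Finset.sum_congr (by ext y; simp [cls]) fun y _ => ?_
    rw [← irr_isClassFunction χ (a * y) a⁻¹]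
    congr 1
    group
  rw [h2, h, centralChar, hcard]
  ring

/-- An irreducible character of the principal block with a value of full absolute value is linear. -/
theorem linear_of_norm_eq (hH : IsPGroup p H) (hab : IsMulCommutative H)
    (hsp : PairSplit H p) (hM : IsPModular p M) (hloc : LocalHyp H p)
    (hZ : ∀ t ∈ H, t ≠ 1 → Subgroup.centralizer ({t} : Set G) ≠ ⊤)
    (htop : Subgroup.normalClosure (H : Set G) = ⊤) {χ : IrrCharacter G} (hχ : χ ∈ bset M G)
    {s : G} (hs : s ∈ H) (hs1 : s ≠ 1)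
    (h : ‖(χ : G → ℂ) s‖ = ‖(χ : G → ℂ) 1‖) : (χ : G → ℂ) 1 = 1 := by
  obtain ⟨χ', n, ρ, hρ, rfl⟩ := χ
  haveI := hρ
  change ‖ρ.character s‖ = ‖ρ.character 1‖ at h
  show ρ.character 1 = 1
  rw [Representation.char_one, Module.finrank_fin_fun] at h ⊢
  rw [Complex.norm_natCast] at h
  have hn : 0 < n := CfsgLib.CharExtension.pos_of_irreducible ρ
  have hR : ∀ g, ∀ r ∈ compl hH hab hsp g, ρ r = LinearMap.id := fun g r hr =>
    apply_eq_id_of_scalar ρ h hn
      (value_coset hH hab hsp hM hloc hZ (mem_bset.1 hχ) hs hs1 hr)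
  let T : Subgroup G :=
    { carrier := {g | ∃ x ∈ H, ρ g = ρ x}
      one_mem' := ⟨1, H.one_mem, rfl⟩
      mul_mem' := fun {a b} ⟨x, hx, ea⟩ ⟨y, hy, eb⟩ =>
        ⟨x * y, H.mul_mem hx hy, by rw [map_mul, map_mul, ea, eb]⟩
      inv_mem' := fun {a} ⟨x, hx, ea⟩ => ⟨x⁻¹, H.inv_mem hx, by
        calc ρ a⁻¹ = ρ a⁻¹ * (ρ x * ρ x⁻¹) := by rw [← map_mul, mul_inv_cancel, map_one, mul_one]
          _ = (ρ a⁻¹ * ρ a) * ρ x⁻¹ := by rw [ea, mul_assoc]
          _ = ρ x⁻¹ := by rw [← map_mul, inv_mul_cancel, map_one, one_mul]⟩ }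
  have hT : (⊤ : Subgroup G) ≤ T := by
    rw [← htop, Subgroup.normalClosure, Subgroup.closure_le]
    intro z hz
    obtain ⟨x, hx, hxz⟩ := Group.mem_conjugatesOfSet_iff.1 hz
    obtain ⟨e, rfl⟩ := isConj_iff.1 hxz
    obtain ⟨t, ht, r, hr, hd⟩ := exists_decomp hH hab hsp (conj_mem_pair e hx)
    exact ⟨t, ht, by rw [hd, map_mul, hR e r hr]; rfl⟩
  rw [finrank_eq_one_of_commute ρ fun a b => ?_, Nat.cast_one]
  obtain ⟨x, hx, ea⟩ := hT (Subgroup.mem_top a)
  obtain ⟨y, hy, eb⟩ := hT (Subgroup.mem_top b)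
  rw [ea, eb]
  show ρ x * ρ y = ρ y * ρ x
  rw [← map_mul, ← map_mul, (commute_of_mem hab hx hy).eq]

/-- Multiplication by an element `s` of `H` alone in its class. -/
theorem apply_mul_singleton (hH : IsPGroup p H) (hab : IsMulCommutative H)
    (hsp : PairSplit H p) (hM : IsPModular p M) (hloc : LocalHyp H p)
    (hZ : ∀ t ∈ H, t ≠ 1 → Subgroup.centralizer ({t} : Set G) ≠ ⊤) {s : G} (hs : s ∈ H)
    (huniq : ∀ g : G, g * s * g⁻¹ ∈ H → g * s * g⁻¹ = s) {χ : IrrCharacter G}
    (hχ : χ ∈ bset M G) {a : G} (ha : a ∈ H) (has : a * s ≠ 1) :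
    (χ : G → ℂ) (a * s) = (χ : G → ℂ) s / (χ : G → ℂ) 1 * (χ : G → ℂ) a := by
  classical
  have hproj : ∀ y ∈ cls s, ∃ e : G, y ∈ pair H e ∧ proj H p y = s := by
    intro y hy
    obtain ⟨e, rfl⟩ := isConj_iff.1 (mem_cls.1 hy)
    refine ⟨e, conj_mem_pair e hs, ?_⟩
    obtain ⟨d, hd⟩ := isConj_iff.1 (isConj_proj hH hab hsp (g := e) hs)
    rw [← hd]
    exact huniq d (hd ▸ proj_mem _)
  have h := sum_cls_value χ a s
  have h2 : ∀ y ∈ cls s, (χ : G → ℂ) (a * y) = (χ : G → ℂ) (a * s) := by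
    intro y hy
    obtain ⟨e, hye, hps⟩ := hproj y hy
    have hr := proj_decomp hH hab hsp hye
    rw [hps] at hr
    have := value_coset hH hab hsp hM hloc hZ (mem_bset.1 hχ) (H.mul_mem ha hs) has hr
    rwa [mul_assoc, mul_inv_cancel_left] at this
  rw [Finset.sum_congr rfl h2, Finset.sum_const, nsmul_eq_mul, mul_assoc] at h
  exact mul_left_cancel₀ (Nat.cast_ne_zero.2 (card_cls_pos s).ne') h

/-- A nonlinear character vanishes at an element of `H` alone in its class. -/
theorem eq_zero_of_singleton (hp : p ≠ 2) (hH : IsPGroup p H) (hab : IsMulCommutative H)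
    (hsp : PairSplit H p) (hM : IsPModular p M) (hloc : LocalHyp H p)
    (hZ : ∀ t ∈ H, t ≠ 1 → Subgroup.centralizer ({t} : Set G) ≠ ⊤)
    (htop : Subgroup.normalClosure (H : Set G) = ⊤) {s : G} (hs : s ∈ H) (hs1 : s ≠ 1)
    (huniq : ∀ g : G, g * s * g⁻¹ ∈ H → g * s * g⁻¹ = s) {χ : IrrCharacter G}
    (hχ : χ ∈ bset M G) (hnl : (χ : G → ℂ) 1 ≠ 1) : (χ : G → ℂ) s = 0 := by
  classical
  set φ := (χ : G → ℂ) s / (χ : G → ℂ) 1 with hφ
  have hstep : ∀ a ∈ H, a * s ≠ 1 → (χ : G → ℂ) (a * s) = φ * (χ : G → ℂ) a := fun a ha has =>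
    apply_mul_singleton hH hab hsp hM hloc hZ hs huniq hχ ha has
  have hpow : ∀ j : ℕ, j + 1 < orderOf s → (χ : G → ℂ) (s ^ (j + 1)) = φ ^ j * (χ : G → ℂ) s := by
    intro j
    induction j with
    | zero => intro _; simp
    | succ j ih =>
      intro hj
      rw [pow_succ s (j + 1), hstep _ (H.pow_mem hs _) (fun e => ?_), ih (by omega), pow_succ]
      · ring
      · rw [← pow_succ] at e
        exact absurd (Nat.le_of_dvd (by omega) (orderOf_dvd_of_pow_eq_one e)) (by omega)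
  obtain ⟨k, hk⟩ := exists_pow_of_mem hH hs
  have ho : 3 ≤ orderOf s := by
    rw [hk]
    rcases k with _ | k
    · exact absurd (orderOf_eq_one_iff.1 (by simpa using hk)) hs1
    · have hp3 : 3 ≤ p := by
        have := (Fact.out : p.Prime).two_le
        omega
      exact le_trans hp3 (Nat.le_self_pow k.succ_ne_zero p)
  have hinv : (χ : G → ℂ) (s ^ (orderOf s - 2 + 1)) = conj ((χ : G → ℂ) s) := by
    rw [← irr_apply_inv]
    have e : s * s ^ (orderOf s - 2 + 1) = 1 := by
      rw [← pow_succ', show orderOf s - 2 + 1 + 1 = orderOf s by omega, pow_orderOf_eq_one]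
    rw [inv_eq_of_mul_eq_one_right e]
  rw [hpow _ (by omega)] at hinv
  have hn := congrArg (fun z : ℂ => ‖z‖) hinv
  simp only [norm_mul, norm_pow, Complex.norm_conj] at hn
  by_contra h0
  have hsn : ‖(χ : G → ℂ) s‖ ≠ 0 := norm_ne_zero_iff.2 h0
  have hφ1 : ‖φ‖ = 1 := (pow_eq_one_iff_of_nonneg (norm_nonneg φ) (by omega)).1
    ((mul_eq_right₀ hsn).1 hn)
  refine hnl (linear_of_norm_eq hH hab hsp hM hloc hZ htop hχ hs hs1 ?_)
  rw [hφ, norm_div, div_eq_one_iff_eq (norm_ne_zero_iff.2 (irr_one_ne_zero χ))] at hφ1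
  exact hφ1

/-- An element of `H` alone in its class forces `G = H`. -/
theorem eq_top_of_singleton (hp : p ≠ 2) (hH : IsPGroup p H) (hab : IsMulCommutative H)
    (hsp : PairSplit H p) (hM : IsPModular p M) (hloc : LocalHyp H p)
    (hZ : ∀ t ∈ H, t ≠ 1 → Subgroup.centralizer ({t} : Set G) ≠ ⊤)
    (htop : Subgroup.normalClosure (H : Set G) = ⊤) (hO : Cfsg.pPrimeCore p G = ⊥) {s : G}
    (hs : s ∈ H) (hs1 : s ≠ 1) (huniq : ∀ g : G, g * s * g⁻¹ ∈ H → g * s * g⁻¹ = s) : H = ⊤ := by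
  classical
  have hS : bnorm M s = ((linset M G).card : ℝ) := bnorm_eq_card_linset fun χ hχ hn =>
    eq_zero_of_singleton hp hH hab hsp hM hloc hZ htop hs hs1 huniq hχ
      fun h1 => hn (mem_linset.2 ⟨hχ, h1⟩)
  have hlow : ∀ D : Subgroup G, IsPGroup p D → D ≤ Subgroup.centralizer ({s} : Set G) →
      Nat.card D ≤ (linset M G).card := fun D hD hDs => by
    have h := card_le_bnorm hM (exists_pow_of_mem hH hs) hD hDs
    rw [hS] at h
    exact_mod_cast h
  have hHs : H ≤ Subgroup.centralizer ({s} : Set G) := fun v hv =>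
    Subgroup.mem_centralizer_singleton_iff.2 (commute_of_mem hab hv hs).eq
  have h1 := hlow H hH hHs
  have h2 := card_linset_mul_le (M := M) htop
  have hker : linker M H = ⊥ := by
    rw [← Subgroup.card_eq_one]
    have hpos : 0 < Nat.card (linker M H) := Nat.card_pos
    have hHpos : 0 < Nat.card H := Nat.card_pos
    nlinarith
  have hLle : (linset M G).card ≤ Nat.card H := by
    rw [hker, Subgroup.card_bot, mul_one] at h2
    exact h2
  -- fusion is trivial
  have hfix : ∀ n ∈ Subgroup.normalizer (H : Set G), ∀ v ∈ H, n * v = v * n := by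
    intro n hn v hv
    have hmem : n * v * n⁻¹ * v⁻¹ ∈ linker M H := by
      refine ⟨H.mul_mem ((Subgroup.mem_normalizer_iff.1 hn v).1 hv) (H.inv_mem hv), fun χ hχ => ?_⟩
      rw [linear_mul (mem_linset.1 hχ).2, irr_isClassFunction χ v n,
        ← linear_mul (mem_linset.1 hχ).2, mul_inv_cancel]
      exact (mem_linset.1 hχ).2
    rw [hker, Subgroup.mem_bot, mul_inv_eq_one, mul_inv_eq_iff_eq_mul] at hmem
    exact hmem
  have hNC : Subgroup.normalizer (H : Set G) ≤ Subgroup.centralizer (H : Set G) := fun n hn =>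
    Subgroup.mem_centralizer_iff.2 fun v hv => (hfix n hn v hv).symm
  obtain ⟨P, hP⟩ := hH.exists_le_sylow
  have hPH : (P : Subgroup G) = H := by
    by_contra h
    have hlt := CfsgLib.Isolated.lt_inf_normalizer P.2 (lt_of_le_of_ne hP (Ne.symm h))
    have hle := hlow _ (P.2.to_le inf_le_left)
      (fun n hn => Subgroup.mem_centralizer_singleton_iff.2 (hfix n hn.2 s hs))
    have hlt' : Nat.card H <
        Nat.card ((P : Subgroup G) ⊓ Subgroup.normalizer (H : Set G) : Subgroup G) := by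
      by_contra hnot
      exact hlt.ne (Subgroup.eq_of_le_of_card_ge hlt.le (not_lt.1 hnot))
    omega
  have hNP : Subgroup.normalizer (P : Set G) ≤ Subgroup.centralizer ((P : Subgroup G) : Set G) := by
    rw [← Sylow.coe_coe, hPH]
    exact hNC
  have hc := MonoidHom.ker_transferSylow_isComplement' P hNP
  have hk : (MonoidHom.transferSylow P hNP).ker = ⊥ := le_bot_iff.1 (hO ▸ le_sSup
    ⟨MonoidHom.normal_ker _, ((Nat.Prime.coprime_iff_not_dvd Fact.out).2
      (MonoidHom.not_dvd_card_ker_transferSylow P hNP)).symm⟩)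
  rw [← hPH]
  exact Subgroup.isComplement'_bot_left.1 (hk ▸ hc)

end CfsgLib.ExtClosed
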